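import Cfsg.Agent.LocalEvenBasic.BenderTI.Action
import Cfsg.Agent.Classification.SharplyThreeProjective.Basic
import Cfsg.Agent.Solvable.FixedPointFree
import Cfsg.Agent.Solvable.Fitting
import Cfsg.Agent.Linear.PglDet
import Cfsg.Agent.S0200
import Cfsg.Agent.S0206
import Cfsg.Agent.S0262

/-!
# The case of an elementary abelian centraliser

If `z` fixes at least three points then `C(z)` is elementary abelian and `G` is `PSL(2, 2^e)` or
has a regular elementary abelian normal 2-subgroup with dihedral complement `N(M)`.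
-/

set_option autoImplicit false
set_option linter.unusedSectionVars false

namespace CfsgLib.BenderTI

open MulAction

variable {G : Type*} [Group G] [Finite G]

/-- `PGL(2, F)` is `PSL(2, F)` in characteristic two. -/
theorem pgl_equiv_psl {F : Type*} [Field F] [Fintype F] (h2 : ringChar F = 2) :
    Nonempty (Matrix.ProjectiveSpecialLinearGroup (Fin 2) F ≃* Matrix.ProjGenLinGroup (Fin 2) F) := by
  refine ⟨MulEquiv.ofBijective Matrix.ProjectiveSpecialLinearGroup.toPGL
    ⟨Matrix.ProjectiveSpecialLinearGroup.toPGL_injective,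
      Matrix.ProjectiveSpecialLinearGroup.toPGL_surj_of_roots fun r => ?_⟩⟩
  obtain ⟨k, hk⟩ := FiniteField.isSquare_of_char_two h2 (r : F)
  have hk0 : k ≠ 0 := by
    rintro rfl
    exact r.ne_zero (by rw [hk, mul_zero])
  refine ⟨Units.mk0 k hk0, Units.ext ?_⟩
  rw [Fintype.card_fin, Units.val_pow_eq_pow_val, Units.val_mk0, pow_two, hk]

/-- An abelian subgroup of odd order of `PSL(2, 2^e)` is cyclic. -/
theorem isCyclic_of_psl {F : Type*} [Field F] [Fintype F] (h2 : ringChar F = 2)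
    (A : Subgroup (Matrix.ProjectiveSpecialLinearGroup (Fin 2) F)) (hA : Odd (Nat.card A))
    (hc : ∀ a b : A, a * b = b * a) : IsCyclic A := by
  classical
  haveI : CharP F 2 := ringChar.of_eq h2
  haveI : Fact (Nat.Prime 2) := ⟨Nat.prime_two⟩
  have hcen : Subgroup.center (Matrix.SpecialLinearGroup (Fin 2) F) = ⊥ := by
    rw [Subgroup.eq_bot_iff_forall]
    intro x hx
    obtain ⟨r, hr, hrx⟩ := Matrix.SpecialLinearGroup.mem_center_iff.1 hx
    have h0 : (r + 1) ^ 2 = 0 := by
      rw [add_pow_char, one_pow]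
      rw [Fintype.card_fin] at hr
      rw [hr, CharTwo.add_self_eq_zero]
    have hr1 : r = 1 := by
      have := pow_eq_zero_iff (n := 2) two_ne_zero |>.1 h0
      rw [CharTwo.add_eq_zero] at this
      exact this
    apply Subtype.ext
    rw [← hrx, hr1]
    simp
  let e := (QuotientGroup.quotientMulEquivOfEq hcen).trans QuotientGroup.quotientBot
  let ι : A →* Matrix.SpecialLinearGroup (Fin 2) F := e.toMonoidHom.comp A.subtype
  have hι : Function.Injective ι := e.injective.comp Subtype.val_injective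
  haveI : IsMulCommutative A := ⟨⟨hc⟩⟩
  letI : CommGroup A := { (inferInstance : Group A) with mul_comm := hc }
  haveI : IsZGroup A := ⟨fun r hr P => by
    haveI := Fact.mk hr
    by_cases hr2 : r = 2
    · subst hr2
      have hbot : (P : Subgroup A) = ⊥ := by
        obtain ⟨n, hn⟩ := IsPGroup.iff_card.1 P.2
        have hd : Nat.card (P : Subgroup A) ∣ Nat.card A := Subgroup.card_subgroup_dvd_card _
        rw [hn] at hd
        rcases n with _ | n
        · rw [← Subgroup.card_eq_one, hn, pow_zero]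
        · exact absurd (even_iff_two_dvd.2 (dvd_trans (dvd_pow_self 2 n.succ_ne_zero) hd))
            (Nat.not_even_iff_odd.2 hA)
      rw [hbot]
      infer_instance
    · have hP : IsPGroup r ↥((P : Subgroup A).map ι) := P.2.map ι
      obtain ⟨R, hR⟩ := hP.exists_le_sylow
      haveI := Cfsg.Agent.S0262.result (F := F) 2 r hr2 hr2 R
      have hcyc : IsCyclic ↥((P : Subgroup A).map ι) :=
        isCyclic_of_injective (Subgroup.inclusion hR) (Subgroup.inclusion_injective hR)
      exact (MulEquiv.isCyclic ((P : Subgroup A).equivMapOfInjective ι hι)).2 hcyc⟩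
  infer_instance

namespace Setup

variable {M : Subgroup G} {z : G} (S : Setup M z)
variable (hJ : M.index < Nat.card {g : G // orderOf g = 2})
variable (hr : ∃ x y : Pts M, x ≠ base M ∧ y ≠ base M ∧ z • x = x ∧ z • y = y ∧ x ≠ y)
include S hJ hr

theorem cent_two {d : G} (hd : d ∈ Subgroup.normalizer (M : Set G)) (hdz : d * z = z * d) :
    d = 1 ∨ d = z := by
  obtain ⟨x, y, hx, hy, hzx, hzy, hxy⟩ := hr
  obtain ⟨t, ht, htN, htx, htx', htz⟩ := S.exists_rep_fixed hJ hx hzx
  obtain ⟨t', ht', htN', hty, hty', htz'⟩ := S.exists_rep_fixed hJ hy hzy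
  set g := t * t' with hg
  have hgz : g * z = z * g := by rw [hg, mul_assoc, htz', ← mul_assoc, htz, mul_assoc]
  have hgo : g • base M ≠ base M := fun e => hxy (by
    rw [hg, mul_smul, hty] at e
    exact (smul_left_cancel t (e.trans htx'.symm)).symm)
  have hfx : z • (g • base M) = g • base M := by
    rw [← mul_smul, ← hgz, mul_smul, S.fix_z_base hJ]
  obtain ⟨s, hs, hsN, hso, hso', hsz⟩ := S.exists_rep_fixed hJ hgo hfx
  have key : ∀ (u : G) (hu : orderOf u = 2) (huN : u ∉ Subgroup.normalizer (M : Set G)),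
      u * z = z * u → ∀ e : G, e ∈ Subgroup.normalizer (M : Set G) → e * z = z * e →
      InD M u e ∧ u * e * u⁻¹ = e⁻¹ := fun u hu huN huz e he hez => by
    have h := (S.inD_iff_commute hJ hu huN S.two S.mem huz).2 ⟨he, hez⟩
    exact ⟨h, S.inD_inverted hJ hu huN h⟩
  have hgd : g * d * g⁻¹ = d := by
    have h1 := (key t' ht' htN' htz' d hd hdz).2
    have h2 := (key t ht htN htz d⁻¹ (inv_mem hd)
      (inv_mul_eq_iff_eq_mul.2 (by rw [← mul_assoc, hdz]; group))).2
    calc g * d * g⁻¹ = t * (t' * d * t'⁻¹) * t⁻¹ := by rw [hg]; group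
      _ = d := by rw [h1, h2, inv_inv]
  have hh : s * g ∈ Subgroup.normalizer (M : Set G) := smul_base_iff.1 (by rw [mul_smul, hso'])
  have hhz : s * g * z = z * (s * g) := by rw [mul_assoc, hgz, ← mul_assoc, hsz, mul_assoc]
  have hhd : s * g * d = d * (s * g) :=
    S.inD_comm hJ hs hsN (key s hs hsN hsz _ hh hhz).1 (key s hs hsN hsz d hd hdz).1
  have hinv := (key s hs hsN hsz d hd hdz).2
  have hdd : d⁻¹ = d := by
    calc d⁻¹ = s * d * s⁻¹ := hinv.symm
      _ = s * (g * d * g⁻¹) * s⁻¹ := by rw [hgd]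
      _ = s * g * d * (s * g)⁻¹ := by group
      _ = d := by rw [hhd]; group
  by_cases h1 : d = 1
  · exact Or.inl h1
  right
  have hd2 : orderOf d = 2 :=
    orderOf_two_of_mul_self (by nth_rewrite 1 [← hdd]; rw [inv_mul_cancel]) h1
  refine S.commuting_unique hJ ht htN hd2 hd ?_ S.two S.mem htz
  have h := (key t ht htN htz d hd hdz).2
  rw [hdd] at h
  conv_rhs => rw [← h]
  group

theorem card_D :
    Nat.card ↥(Subgroup.normalizer (M : Set G) ⊓ Subgroup.centralizer ({z} : Set G)) = 2 := by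
  have heq : Subgroup.normalizer (M : Set G) ⊓ Subgroup.centralizer ({z} : Set G) =
      Subgroup.zpowers z := by
    refine le_antisymm (fun d hd => ?_) ?_
    · obtain ⟨h1, h2⟩ := Subgroup.mem_inf.1 hd
      rcases S.cent_two hJ hr h1 (Subgroup.mem_centralizer_singleton_iff.1 h2) with rfl | rfl
      · exact one_mem _
      · exact Subgroup.mem_zpowers _
    · rw [Subgroup.zpowers_le, Subgroup.mem_inf, Subgroup.mem_centralizer_singleton_iff]
      exact ⟨S.mem, rfl⟩
  rw [heq, Nat.card_zpowers, S.two]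

theorem cent_sq {k : G} (hk : k * z = z * k) : k * k = 1 := by
  by_cases hkN : k ∈ Subgroup.normalizer (M : Set G)
  · rcases S.cent_two hJ hr hkN hk with rfl | rfl
    · rw [mul_one]
    · exact S.zz
  have hx : k • base M ≠ base M := fun e => hkN (smul_base_iff.1 e)
  have hzx : z • (k • base M) = k • base M := by rw [← mul_smul, ← hk, mul_smul, S.fix_z_base hJ]
  obtain ⟨s, hs, hsN, hso, hso', hsz⟩ := S.exists_rep_fixed hJ hx hzx
  have hh : s * k ∈ Subgroup.normalizer (M : Set G) := smul_base_iff.1 (by rw [mul_smul, hso'])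
  have hhz : s * k * z = z * (s * k) := by rw [mul_assoc, hk, ← mul_assoc, hsz, mul_assoc]
  have hss := mul_self_of_orderOf_two hs
  have hk' : k = s * (s * k) := by rw [← mul_assoc, hss, one_mul]
  rcases S.cent_two hJ hr hh hhz with h | h
  · rw [hk', h, mul_one, hss]
  · rw [hk', h]
    calc s * z * (s * z) = s * (z * s) * z := by group
      _ = s * s * (z * z) := by rw [← hsz]; group
      _ = 1 := by rw [hss, S.zz, one_mul]

theorem cent_comm_all {a b : G} (ha : a * z = z * a) (hb : b * z = z * b) : a * b = b * a := by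
  have hab := S.cent_sq hJ hr (k := a * b) (by rw [mul_assoc, hb, ← mul_assoc, ha, mul_assoc])
  have ha' := inv_eq_of_mul_eq_one_right (S.cent_sq hJ hr ha)
  have hb' := inv_eq_of_mul_eq_one_right (S.cent_sq hJ hr hb)
  conv_lhs => rw [← inv_eq_of_mul_eq_one_right hab, mul_inv_rev, ha', hb']

theorem card_cent : Nat.card ↥(Subgroup.centralizer ({z} : Set G)) =
    2 * (Nat.card {x : Pts M // x ≠ base M ∧ z • x = x} + 1) := by
  classical
  haveI := Fintype.ofFinite (Pts M)
  set K := Subgroup.centralizer ({z} : Set G) with hK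
  set D := Subgroup.normalizer (M : Set G) ⊓ K with hD
  have hreach : ∀ x : {x : Pts M // z • x = x}, ∃ k : G, k ∈ K ∧ k • base M = x.1 := by
    intro x
    by_cases hx : x.1 = base M
    · exact ⟨1, one_mem _, by rw [one_smul, hx]⟩
    · obtain ⟨t, -, -, hto, -, htz⟩ := S.exists_rep_fixed hJ hx x.2
      exact ⟨t, Subgroup.mem_centralizer_singleton_iff.2 htz, hto⟩
  choose σ hσK hσo using hreach
  let F : {x : Pts M // z • x = x} × D → K := fun p =>
    ⟨σ p.1 * p.2, mul_mem (hσK p.1) (Subgroup.mem_inf.1 p.2.2).2⟩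
  have hF : Function.Bijective F := by
    refine ⟨fun p q h => ?_, fun k => ?_⟩
    · have h' : σ p.1 * (p.2 : G) = σ q.1 * q.2 := congrArg Subtype.val h
      have h1 : p.1 = q.1 := by
        refine Subtype.ext ?_
        have := congrArg (fun g : G => g • base M) h'
        simpa only [mul_smul, smul_base_iff.2 (Subgroup.mem_inf.1 p.2.2).1,
          smul_base_iff.2 (Subgroup.mem_inf.1 q.2.2).1, hσo] using this
      rw [h1] at h'
      exact Prod.ext h1 (Subtype.ext (mul_left_cancel h'))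
    · have hk := Subgroup.mem_centralizer_singleton_iff.1 k.2
      set x : {x : Pts M // z • x = x} := ⟨(k : G) • base M, by
        rw [← mul_smul, ← hk, mul_smul, S.fix_z_base hJ]⟩ with hx
      refine ⟨(x, ⟨(σ x)⁻¹ * k, Subgroup.mem_inf.2 ⟨?_, mul_mem (inv_mem (hσK x)) k.2⟩⟩),
        Subtype.ext (mul_inv_cancel_left _ _)⟩
      exact smul_base_iff.1 (by rw [mul_smul, inv_smul_eq_iff, hσo])
  have h1 := Nat.card_eq_of_bijective F hF
  rw [Nat.card_prod, S.card_D hJ hr] at h1
  have h2 : Nat.card {x : Pts M // z • x = x} =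
      Nat.card {x : Pts M // x ≠ base M ∧ z • x = x} + 1 := by
    rw [← Finite.card_option]
    refine Nat.card_congr
      { toFun := fun x => if h : x.1 = base M then none else some ⟨x.1, h, x.2⟩
        invFun := fun o => o.elim ⟨base M, S.fix_z_base hJ⟩ fun x => ⟨x.1, x.2.2⟩
        left_inv := fun x => by
          by_cases h : x.1 = base M
          · simp only [h, dif_pos, Option.elim_none]; exact Subtype.ext h.symm
          · simp [h]
        right_inv := fun o => by
          cases o with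
          | none => simp
          | some x => simp [x.2.1] }
  rw [← h1, h2]; ring

theorem exists_pow : ∃ e, 2 ≤ e ∧ Nat.card {x : Pts M // x ≠ base M ∧ z • x = x} + 1 = 2 ^ e := by
  haveI : Fact (Nat.Prime 2) := ⟨Nat.prime_two⟩
  have hp : IsPGroup 2 ↥(Subgroup.centralizer ({z} : Set G)) := fun k => ⟨1, Subtype.ext (by
    rw [pow_one, SubmonoidClass.coe_pow, pow_two, OneMemClass.coe_one]
    exact S.cent_sq hJ hr (Subgroup.mem_centralizer_singleton_iff.1 k.2))⟩
  obtain ⟨n, hn⟩ := IsPGroup.iff_card.1 hp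
  rw [S.card_cent hJ hr] at hn
  obtain ⟨x, y, hx, hy, hzx, hzy, hxy⟩ := hr
  haveI : Nontrivial {x : Pts M // x ≠ base M ∧ z • x = x} :=
    ⟨⟨x, hx, hzx⟩, ⟨y, hy, hzy⟩, fun e => hxy (congrArg Subtype.val e)⟩
  have h2 : 1 < Nat.card {x : Pts M // x ≠ base M ∧ z • x = x} := Finite.one_lt_card
  rcases n with _ | n
  · omega
  rw [pow_succ'] at hn
  have hn' := Nat.eq_of_mul_eq_mul_left (by norm_num) hn
  refine ⟨n, ?_, hn'⟩
  by_contra hlt
  interval_cases n <;> simp at hn' <;> omega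

theorem card_group :
    Nat.card G = 2 * Nat.card M * Nat.card (Pts M) := by
  have h := (Subgroup.normalizer (M : Set G)).index_mul_card
  rw [S.card_normalizer, S.card_D hJ hr, Subgroup.index_eq_card] at h
  rw [← h]; ring

/-- The number of involutions. -/
theorem card_invol : Nat.card {g : G // orderOf g = 2} + 2 =
    Nat.card M + 2 * Nat.card (Pts M) := by
  classical
  let N := Subgroup.normalizer (M : Set G)
  let π : G → G ⧸ M := fun x => (x : G ⧸ M)
  let J := {g : G // orderOf g = 2}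
  have hMN : M ≤ N := Subgroup.le_normalizer
  let Φ : {j : J // (j : G) ∉ N} ⊕ Bool → G ⧸ M :=
    Sum.elim (fun j => π j.1.1) (fun b => π (if b then z else 1))
  have hbool : ∀ b : Bool, (if b then z else 1) ∈ N := fun b => by
    cases b
    · exact one_mem _
    · exact S.mem
  have hzM : z ∉ M := fun h => ne_one_of_orderOf_two S.two (S.fpf_invol S.two h rfl)
  have hmix : ∀ (a : {j : J // (j : G) ∉ N}) (b : Bool), π a.1.1 ≠ π (if b then z else 1) := by
    intro a b h
    apply a.2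
    have hm := hMN (QuotientGroup.eq.1 h)
    have := N.mul_mem (hbool b) (N.inv_mem hm)
    rwa [show (if b then z else 1) * (a.1.1⁻¹ * (if b then z else 1))⁻¹ = a.1.1 by group] at this
  have hΦ : Function.Bijective Φ := by
    refine ⟨?_, fun q => ?_⟩
    · rintro (a | a) (b | b) h
      · have hm := QuotientGroup.eq.1 h
        exact congrArg Sum.inl (Subtype.ext (Subtype.ext (inv_mul_eq_one.1 (S.coset_unique
          (mul_self_of_orderOf_two a.1.2) a.2 hm
          (by rw [mul_inv_cancel_left]; exact mul_self_of_orderOf_two b.1.2)))))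
      · exact absurd h (hmix a b)
      · exact absurd h.symm (hmix b a)
      · have hm := QuotientGroup.eq.1 h
        cases a <;> cases b
        · rfl
        · exact absurd (by simpa using hm : z ∈ M) hzM
        · exact absurd (M.inv_mem_iff.1 (by simpa using hm : z⁻¹ ∈ M)) hzM
        · rfl
    · induction q using QuotientGroup.induction_on with
      | H g =>
        by_cases hg : g ∈ N
        · obtain ⟨m, hm, u, hu, huz, rfl⟩ := S.exists_split hg
          have he : ∀ v ∈ N, m * v = v * (v⁻¹ * m * v) := fun v _ => by group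
          rcases S.cent_two hJ hr hu huz with rfl | rfl
          · refine ⟨Sum.inr false, ?_⟩
            show π 1 = _
            exact QuotientGroup.eq.2 (by simpa using hm)
          · refine ⟨Sum.inr true, ?_⟩
            show π u = _
            refine QuotientGroup.eq.2 ?_
            rw [← mul_assoc]
            exact S.conj_mem' S.mem hm
        · obtain ⟨t, m, ht, htN, hm, rfl⟩ := S.exists_invol hJ hg
          refine ⟨Sum.inl ⟨⟨t, ht⟩, htN⟩, QuotientGroup.eq.2 ?_⟩
          show t⁻¹ * (t * m) ∈ M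
          rw [inv_mul_cancel_left]
          exact hm
  have h1 := Nat.card_eq_of_bijective Φ hΦ
  rw [Nat.card_sum, Nat.card_eq_fintype_card (α := Bool), Fintype.card_bool,
    ← Subgroup.index_eq_card] at h1
  let eIn : {j : J // (j : G) ∈ N} → M := fun j =>
    ⟨z * (j : J).1, by
      obtain ⟨m, hm, he⟩ := S.invol_mem j.1.2 j.2
      rw [he, ← mul_assoc, S.zz, one_mul]; exact hm⟩
  have heIn : Function.Bijective eIn :=
    ⟨fun a b h => Subtype.ext (Subtype.ext (mul_left_cancel (congrArg Subtype.val h :))),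
      fun m => ⟨⟨⟨z * m, S.zm_invol m.2⟩, mul_mem S.mem (hMN m.2)⟩, Subtype.ext (by
        show z * (z * (m : G)) = m
        rw [← mul_assoc, S.zz, one_mul])⟩⟩
  have h2 := Nat.card_eq_of_bijective eIn heIn
  have h3 : Nat.card J = Nat.card {j : J // (j : G) ∈ N} + Nat.card {j : J // (j : G) ∉ N} := by
    rw [← Nat.card_sum, Nat.card_congr (Equiv.sumCompl fun j : J => (j : G) ∈ N)]
  have h4 : M.index = 2 * Nat.card (Pts M) := by
    refine Nat.eq_of_mul_eq_mul_right (show 0 < Nat.card M from Nat.card_pos) ?_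
    rw [M.index_mul_card, S.card_group hJ hr]; ring
  show Nat.card J + 2 = _
  omega

omit hJ hr in
theorem card_class :
    Nat.card {s : G // ∃ g, g * z * g⁻¹ = s} = (Subgroup.centralizer ({z} : Set G)).index := by
  rw [Subgroup.index_eq_card]
  refine (Nat.card_eq_of_bijective
    (fun q : G ⧸ Subgroup.centralizer ({z} : Set G) =>
      (⟨q.out * z * q.out⁻¹, q.out, rfl⟩ : {s : G // ∃ g, g * z * g⁻¹ = s})) ⟨?_, ?_⟩).symm
  · intro a b h
    have h' : a.out * z * a.out⁻¹ = b.out * z * b.out⁻¹ := congrArg Subtype.val h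
    rw [← QuotientGroup.out_eq' a, ← QuotientGroup.out_eq' b, QuotientGroup.eq,
      Subgroup.mem_centralizer_singleton_iff]
    calc a.out⁻¹ * b.out * z = a.out⁻¹ * (b.out * z * b.out⁻¹) * b.out := by group
      _ = a.out⁻¹ * (a.out * z * a.out⁻¹) * b.out := by rw [h']
      _ = z * (a.out⁻¹ * b.out) := by group
  · rintro ⟨s, g, rfl⟩
    refine ⟨(g : G ⧸ Subgroup.centralizer ({z} : Set G)), Subtype.ext ?_⟩
    obtain ⟨⟨k, hk⟩, he⟩ := QuotientGroup.mk_out_eq_mul (Subgroup.centralizer ({z} : Set G)) g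
    show (g : G ⧸ Subgroup.centralizer ({z} : Set G)).out * z * _ = g * z * g⁻¹
    rw [he]
    rw [Subgroup.mem_centralizer_singleton_iff] at hk
    calc g * k * z * (g * k)⁻¹ = g * (k * z) * k⁻¹ * g⁻¹ := by group
      _ = g * z * g⁻¹ := by rw [hk]; group

/-- The two possible parameter sets. -/
theorem numbers :
    ∃ e, 2 ≤ e ∧ Nat.card ↥(Subgroup.centralizer ({z} : Set G)) = 2 * 2 ^ e ∧
      ((Nat.card M = 2 * 2 ^ e + 1 ∧ ∀ s : G, orderOf s = 2 → ∃ g, g * z * g⁻¹ = s) ∨
       (Nat.card M = 2 ^ e + 1 ∧ Nat.card (Pts M) = 2 ^ e * 2 ^ e ∧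
        2 ^ e * 2 ^ e ≤
          Nat.card {s : G // orderOf s = 2 ∧ ¬ ∃ g, g * z * g⁻¹ = s} + 1)) := by
  classical
  obtain ⟨e, he, hR⟩ := S.exists_pow hJ hr
  have hK := S.card_cent hJ hr
  rw [hR] at hK
  refine ⟨e, he, hK, ?_⟩
  set R := Nat.card {x : Pts M // x ≠ base M ∧ z • x = x} with hRdef
  set Q := Nat.card M with hQ
  set f := Nat.card (Pts M) with hf
  have hfQ : f = Q * R + 1 := S.card_points hJ
  have hc := (Subgroup.centralizer ({z} : Set G)).index_mul_card
  rw [← card_class S, hK, S.card_group hJ hr, ← hQ, ← hf] at hc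
  set c := Nat.card {s : G // ∃ g, g * z * g⁻¹ = s} with hcdef
  have hc' : c * 2 ^ e = Q * f := by linarith
  have hcop : (2 ^ e).Coprime Q :=
    Nat.Coprime.pow_left e (Nat.coprime_two_left.2 S.odd_card)
  obtain ⟨o, ho⟩ : 2 ^ e ∣ f := hcop.dvd_of_dvd_mul_left (hc' ▸ dvd_mul_left (2 ^ e) c)
  have hco : c = Q * o := by
    refine Nat.eq_of_mul_eq_mul_right (show 0 < 2 ^ e from by positivity) ?_
    rw [hc', ho]; ring
  have hJJ := S.card_invol hJ hr
  rw [← hQ, ← hf] at hJJ
  set J := Nat.card {g : G // orderOf g = 2} with hJdef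
  have hsplit : J = c + Nat.card {s : G // orderOf s = 2 ∧ ¬ ∃ g, g * z * g⁻¹ = s} := by
    let P : {g : G // orderOf g = 2} → Prop := fun s => ∃ g, g * z * g⁻¹ = s.1
    rw [hJdef, ← Nat.card_congr (Equiv.sumCompl P), Nat.card_sum]
    congr 1
    · refine Nat.card_congr ((Equiv.subtypeSubtypeEquivSubtypeInter
        (fun g => orderOf g = 2) (fun s => ∃ g, g * z * g⁻¹ = s)).trans
          (Equiv.subtypeEquivRight fun s => ⟨fun h => h.2, fun h => ⟨?_, h⟩⟩))
      obtain ⟨g, rfl⟩ := h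
      rw [show g * z * g⁻¹ = MulAut.conj g z by simp, MulEquiv.orderOf_eq, S.two]
    · exact Nat.card_congr (Equiv.subtypeSubtypeEquivSubtypeInter
        (fun g => orderOf g = 2) (fun s => ¬ ∃ g, g * z * g⁻¹ = s))
  set E := Nat.card {s : G // orderOf s = 2 ∧ ¬ ∃ g, g * z * g⁻¹ = s} with hE
  have hQ1 : 1 < Q := by
    haveI : Nontrivial M := by
      obtain ⟨m, hm, hm1⟩ := S.exists_ne
      exact ⟨⟨m, hm⟩, 1, fun e => hm1 (congrArg Subtype.val e)⟩
    exact Finite.one_lt_card
  rw [← hR] at ho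
  have hoQ : o < Q := by
    by_contra h
    push Not at h
    have h1 := Nat.mul_le_mul_left (R + 1) h
    rw [← ho, hfQ] at h1
    linarith
  obtain ⟨j, hj⟩ : ∃ j, Q = o + (j + 1) := ⟨Q - o - 1, by omega⟩
  have hoj : o = R * (j + 1) + 1 := by
    rw [hfQ, hj] at ho
    linarith
  have hQj : Q = (R + 1) * (j + 1) + 1 := by rw [hj, hoj]; ring
  have hle : o ≤ 2 * R + 1 := by
    have : Q * o ≤ Q * (2 * R + 1) := by linarith
    exact Nat.le_of_mul_le_mul_left this (by omega)
  have hR3 : 3 ≤ R := by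
    have : 2 ^ 2 ≤ 2 ^ e := Nat.pow_le_pow_right (by norm_num) he
    omega
  rw [← hR]
  rcases j with _ | _ | j
  · right
    have h1 : Q = R + 2 := by linarith
    have h2 : o = R + 1 := by linarith
    rw [h2] at ho hco
    refine ⟨h1, ho, ?_⟩
    rw [hco, h1] at hsplit
    rw [hfQ, h1] at hJJ
    linarith
  · left
    have h1 : Q = 2 * (R + 1) + 1 := by linarith
    have h2 : o = 2 * R + 1 := by linarith
    refine ⟨h1, fun s hs => ?_⟩
    by_contra hno
    haveI : Nonempty {s : G // orderOf s = 2 ∧ ¬ ∃ g, g * z * g⁻¹ = s} := ⟨⟨s, hs, hno⟩⟩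
    have hE0 : 0 < E := Nat.card_pos
    rw [hco, h2] at hsplit
    rw [hfQ] at hJJ
    linarith
  · exfalso
    rw [hoj] at hle
    have h1 : R * (j + 1 + 1 + 1) = R * j + 3 * R := by ring
    have : 0 ≤ R * j := Nat.zero_le _
    linarith

/-- All involutions conjugate: `G = PSL(2, 2^(e+1))`. -/
theorem sl2_case {e : ℕ} (he : 2 ≤ e)
    (hK : Nat.card ↥(Subgroup.centralizer ({z} : Set G)) = 2 * 2 ^ e)
    (hQ : Nat.card M = 2 * 2 ^ e + 1) (hall : ∀ s : G, orderOf s = 2 → ∃ g, g * z * g⁻¹ = s) :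
    ∃ (F : Type) (_ : Field F) (_ : Fintype F) (n : ℕ), 1 < n ∧ Fintype.card F = 2 ^ n ∧
      IsCyclic M ∧ Nat.card M = 2 ^ n + 1 ∧
      Nonempty (G ≃* Matrix.ProjectiveSpecialLinearGroup (Fin 2) F) := by
  classical
  haveI : Fact (Nat.Prime 2) := ⟨Nat.prime_two⟩
  obtain ⟨h, hh⟩ : ∃ h, 2 ^ e = 2 * h ∧ 2 ≤ h :=
    ⟨2 ^ (e - 1), by rw [← pow_succ']; congr 1; omega, Nat.le_self_pow (by omega) 2⟩
  obtain ⟨R, hR⟩ : ∃ R, R + 1 = 2 ^ e := ⟨2 ^ e - 1, by have := hh.2; omega⟩
  have hRR : Nat.card {x : Pts M // x ≠ base M ∧ z • x = x} = R := by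
    have := S.card_cent hJ hr
    omega
  set q := 2 * 2 ^ e with hq
  have hq8 : 8 ≤ q := by have := hh.2; omega
  have hf : Nat.card (Pts M) = (q + 1) * R + 1 := by rw [S.card_points hJ, hRR, hQ]
  have hG : Nat.card G = q * ((q + 1) * (2 * R + 1)) := by
    rw [S.card_group hJ hr, hQ, hf]
    have : q = 2 * R + 2 := by omega
    rw [this]; ring
  have hJc : Nat.card {g : G // orderOf g = 2} = (q + 1) * (2 * R + 1) := by
    have := S.card_invol hJ hr
    rw [hQ, hf] at this
    nlinarith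
  set K := Subgroup.centralizer ({z} : Set G) with hKdef
  have hidx : K.index = (q + 1) * (2 * R + 1) := by
    refine Nat.eq_of_mul_eq_mul_right (show 0 < Nat.card K from Nat.card_pos) ?_
    rw [K.index_mul_card, hG, hK]; ring
  have hKp : IsPGroup 2 K := IsPGroup.of_card (n := e + 1) (by rw [hK, hq, pow_succ'])
  have hKnot : ¬ 2 ∣ K.index := by
    rw [hidx, Nat.Prime.dvd_mul Nat.prime_two]
    omega
  set P0 := hKp.toSylow hKnot with hP0
  have hP0K : (P0 : Subgroup G) = K := IsPGroup.toSylow_coe _ _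
  have hsylconj : ∀ P : Sylow 2 G, ∃ g : G, g • P0 = P := fun P => exists_smul_eq G P0 P
  have hKmem : ∀ {k : G}, k ∈ K → k * z = z * k := Subgroup.mem_centralizer_singleton_iff.1
  have hmem : ∀ {P : Sylow 2 G} {g x : G}, g • P0 = P →
      (x ∈ (P : Subgroup G) ↔ g⁻¹ * x * g ∈ K) := by
    intro P g x hgP
    rw [← hgP, Sylow.coe_subgroup_smul, Subgroup.mem_pointwise_smul_iff_inv_smul_mem, hP0K]
    simp [MulAut.smul_def, mul_assoc]
  have hcard : ∀ P : Sylow 2 G, Nat.card (P : Subgroup G) = q := fun P => by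
    rw [← hK, ← hP0K]
    exact Nat.card_congr (Sylow.equiv P P0).toEquiv
  have hsq : ∀ (P : Sylow 2 G) {u : G}, u ∈ (P : Subgroup G) → u * u = 1 := by
    intro P u hu
    obtain ⟨g, hg⟩ := hsylconj P
    have h1 := S.cent_sq hJ hr (hKmem ((hmem hg).1 hu))
    calc u * u = g * ((g⁻¹ * u * g) * (g⁻¹ * u * g)) * g⁻¹ := by group
      _ = 1 := by rw [h1]; group
  have hcomm : ∀ (P : Sylow 2 G) {a b : G}, a ∈ (P : Subgroup G) → b ∈ (P : Subgroup G) →
      a * b = b * a := by
    intro P a b ha hb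
    obtain ⟨g, hg⟩ := hsylconj P
    have h1 := S.cent_comm_all hJ hr (hKmem ((hmem hg).1 ha)) (hKmem ((hmem hg).1 hb))
    calc a * b = g * ((g⁻¹ * a * g) * (g⁻¹ * b * g)) * g⁻¹ := by group
      _ = b * a := by rw [h1]; group
  have hTI : ∀ (P : Sylow 2 G) {u : G}, u ∈ (P : Subgroup G) → u ≠ 1 →
      (P : Subgroup G) = Subgroup.centralizer ({u} : Set G) := by
    intro P u hu hu1
    refine Subgroup.eq_of_le_of_card_ge
      (fun x hx => Subgroup.mem_centralizer_singleton_iff.2 (hcomm P hx hu)) ?_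
    obtain ⟨g, rfl⟩ := hall u (orderOf_two_of_mul_self (hsq P hu) hu1)
    rw [hcard P, ← hK]
    refine le_of_eq (Nat.card_congr
      { toFun := fun x => ⟨g⁻¹ * x.1 * g, Subgroup.mem_centralizer_singleton_iff.2 (by
          have := Subgroup.mem_centralizer_singleton_iff.1 x.2
          calc g⁻¹ * x.1 * g * z = g⁻¹ * (x.1 * (g * z * g⁻¹)) * g := by group
            _ = z * (g⁻¹ * x.1 * g) := by rw [this]; group)⟩
        invFun := fun x => ⟨g * x.1 * g⁻¹, Subgroup.mem_centralizer_singleton_iff.2 (by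
          have := Subgroup.mem_centralizer_singleton_iff.1 x.2
          calc g * x.1 * g⁻¹ * (g * z * g⁻¹) = g * (x.1 * z) * g⁻¹ := by group
            _ = (g * z * g⁻¹) * (g * x.1 * g⁻¹) := by rw [this]; group)⟩
        left_inv := fun x => Subtype.ext (by group)
        right_inv := fun x => Subtype.ext (by group) })
  haveI := Fintype.ofFinite (Sylow 2 G)
  have hn : Nat.card (Sylow 2 G) = q + 1 := by
    let Φ : (Σ P : Sylow 2 G, {u : (P : Subgroup G) // u ≠ 1}) → {g : G // orderOf g = 2} :=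
      fun p => ⟨p.2.1.1, orderOf_two_of_mul_self (hsq p.1 p.2.1.2)
        fun h => p.2.2 (Subtype.ext h)⟩
    have hΦ : Function.Bijective Φ := by
      refine ⟨?_, fun s => ?_⟩
      · rintro ⟨P, ⟨u, hu⟩, hu1⟩ ⟨P', ⟨u', hu'⟩, hu1'⟩ h
        have h' : u = u' := congrArg Subtype.val h
        subst h'
        have hne : u ≠ 1 := fun e => hu1 (Subtype.ext e)
        have hPP : P = P' := Sylow.ext ((hTI P hu hne).trans (hTI P' hu' hne).symm)
        subst hPP
        rfl
      · obtain ⟨g, hg⟩ := hall s.1 s.2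
        have hmem' : s.1 ∈ ((g • P0 : Sylow 2 G) : Subgroup G) := by
          rw [hmem rfl, ← hg, show g⁻¹ * (g * z * g⁻¹) * g = z by group]
          exact Subgroup.mem_centralizer_singleton_iff.2 rfl
        exact ⟨⟨g • P0, ⟨⟨s.1, hmem'⟩, fun e => ne_one_of_orderOf_two s.2
          (congrArg Subtype.val e)⟩⟩, rfl⟩
    have h1 := Nat.card_eq_of_bijective Φ hΦ
    rw [Nat.card_sigma, hJc] at h1
    have hsub : ∀ P : Sylow 2 G, Nat.card {u : (P : Subgroup G) // u ≠ 1} = 2 * R + 1 := by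
      intro P
      haveI := Fintype.ofFinite (P : Subgroup G)
      rw [Nat.card_eq_fintype_card, Fintype.card_subtype_compl, Fintype.card_subtype_eq,
        ← Nat.card_eq_fintype_card, hcard P]
      omega
    rw [Finset.sum_congr rfl (fun P _ => hsub P), Finset.sum_const, Finset.card_univ,
      smul_eq_mul] at h1
    rw [Nat.card_eq_fintype_card]
    exact Nat.eq_of_mul_eq_mul_right (by omega) h1
  have hfree : ∀ {P P' : Sylow 2 G}, P' ≠ P → ∀ {k : G}, k ∈ (P : Subgroup G) → k • P' = P' →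
      k = 1 := by
    intro P P' hne k hk hfix
    by_contra hk1
    apply hne
    have hkN := Sylow.smul_eq_iff_mem_normalizer.1 hfix
    have hle : Subgroup.zpowers k ≤ (P' : Subgroup G) := by
      have h2 : IsPGroup 2 ↥(Subgroup.zpowers k) := P.2.to_le (Subgroup.zpowers_le.2 hk)
      have := h2.inf_normalizer_sylow P'
      rw [inf_eq_left.2 (Subgroup.zpowers_le.2 hkN)] at this
      exact this ▸ inf_le_right
    exact Sylow.ext ((hTI P' (hle (Subgroup.mem_zpowers k)) hk1).trans (hTI P hk hk1).symm)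
  let Oth := {P : Sylow 2 G // P ≠ P0}
  have hOth : Nat.card Oth = q := by
    rw [Nat.card_eq_fintype_card, Fintype.card_subtype_compl, Fintype.card_subtype_eq,
      ← Nat.card_eq_fintype_card, hn]
    omega
  have hreg : ∀ (P : Sylow 2 G) (hP : P ≠ P0), Function.Bijective (fun k : (P0 : Subgroup G) =>
      (⟨(k : G) • P, fun e => by
        have hk : (k : G) • P0 = P0 :=
          Sylow.smul_eq_iff_mem_normalizer.2 (Subgroup.le_normalizer k.2)
        exact hP (smul_left_cancel (k : G) (e.trans hk.symm))⟩ : Oth)) := by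
    intro P hP
    refine Function.Injective.bijective_of_nat_card_le (fun k k' h => ?_) (by rw [hOth, hcard])
    have h' : (k : G) • P = (k' : G) • P := congrArg Subtype.val h
    exact Subtype.ext (inv_mul_eq_one.1 (hfree hP
      ((P0 : Subgroup G).mul_mem ((P0 : Subgroup G).inv_mem k'.2) k.2)
      (by rw [mul_smul, h', inv_smul_smul]))).symm
  have hsharp0 : ∀ {g : G} {P P' : Sylow 2 G}, P ≠ P0 → P' ≠ P0 → P ≠ P' →
      g • P0 = P0 → g • P = P → g • P' = P' → g = 1 := by
    intro g P P' hP hP' hne h0 h1 h2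
    obtain ⟨⟨k, hk⟩, hkP⟩ := (hreg P hP).2 ⟨P', hP'⟩
    have hkP' : k • P = P' := congrArg Subtype.val hkP
    have hk1 : k ≠ 1 := fun e => hne (by rw [← hkP', e, one_smul])
    have hgN := Sylow.smul_eq_iff_mem_normalizer.1 h0
    have hconj : g * k⁻¹ * g⁻¹ ∈ (P0 : Subgroup G) :=
      (Subgroup.mem_normalizer_iff.1 hgN k⁻¹).1 ((P0 : Subgroup G).inv_mem hk)
    have hgi : g⁻¹ • P' = P' := inv_smul_eq_iff.2 h2.symm
    have hc := hfree hP ((P0 : Subgroup G).mul_mem hconj hk) (by
      rw [mul_smul, hkP', mul_smul, mul_smul, hgi, ← hkP', inv_smul_smul, h1])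
    have hgk : g * k = k * g := by
      have h := eq_inv_of_mul_eq_one_left hc
      rw [inv_eq_of_mul_eq_one_right (hsq P0 hk)] at h
      calc g * k = g * k * g⁻¹ * g := by group
        _ = k * g := by rw [h]
    have hgP0 : g ∈ (P0 : Subgroup G) := by
      rw [hTI P0 hk hk1]
      exact Subgroup.mem_centralizer_singleton_iff.2 hgk
    exact hfree hP hgP0 h1
  have hs : ∀ (g : G) (a b c : Sylow 2 G), a ≠ b → a ≠ c → b ≠ c → g • a = a → g • b = b →
      g • c = c → g = 1 := by
    intro g a b c hab hac hbc ha hb hc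
    obtain ⟨x, hx⟩ := exists_smul_eq G a P0
    have h := hsharp0 (g := x * g * x⁻¹) (P := x • b) (P' := x • c)
      (fun e => hab (smul_left_cancel x (hx.trans e.symm)))
      (fun e => hac (smul_left_cancel x (hx.trans e.symm)))
      (fun e => hbc (smul_left_cancel x e))
      (by rw [mul_smul, mul_smul, ← hx, inv_smul_smul, ha])
      (by rw [mul_smul, mul_smul, inv_smul_smul, hb])
      (by rw [mul_smul, mul_smul, inv_smul_smul, hc])
    exact conj_eq_one_iff.1 h
  obtain ⟨P1, hP1⟩ : ∃ P : Sylow 2 G, P ≠ P0 := by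
    haveI : Nonempty Oth := (Nat.card_pos_iff.1 (by omega)).1
    exact ⟨(Classical.arbitrary Oth).1, (Classical.arbitrary Oth).2⟩
  obtain ⟨P2, hP2, hP21⟩ : ∃ P : Sylow 2 G, P ≠ P0 ∧ P ≠ P1 := by
    haveI : Nontrivial Oth := Finite.one_lt_card_iff_nontrivial.1 (by omega)
    obtain ⟨P, hP⟩ := _root_.exists_ne (⟨P1, hP1⟩ : Oth)
    exact ⟨P.1, P.2, fun e => hP (Subtype.ext e)⟩
  set H := stabilizer G P0 ⊓ stabilizer G P1 with hH
  let Oth2 := {P : Sylow 2 G // P ≠ P0 ∧ P ≠ P1}
  have hOth2 : Nat.card Oth2 = q - 1 := by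
    rw [Nat.card_eq_fintype_card, Fintype.card_subtype]
    have : (Finset.univ.filter fun c : Sylow 2 G => c ≠ P0 ∧ c ≠ P1) =
        ({P0, P1} : Finset (Sylow 2 G))ᶜ := by ext c; simp
    rw [this, Finset.card_compl, Finset.card_pair hP1.symm, ← Nat.card_eq_fintype_card, hn]
    omega
  have hHcard : q - 1 ≤ Nat.card H := by
    set N := stabilizer G P0 with hN
    have h1 := N.index_mul_card
    rw [index_stabilizer_of_transitive, hn, hG] at h1
    have h2 : Nat.card N = q * (2 * R + 1) := by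
      refine Nat.eq_of_mul_eq_mul_left (show 0 < q + 1 by omega) ?_
      rw [h1]; ring
    have hchoose : ∀ g : N, ∃ k : (P0 : Subgroup G), (k : G) • P1 = (g : G) • P1 := fun g => by
      obtain ⟨k, hk⟩ := (hreg P1 hP1).2 ⟨(g : G) • P1, fun e =>
        hP1 (smul_left_cancel (g : G) (e.trans g.2.symm))⟩
      exact ⟨k, congrArg Subtype.val hk⟩
    choose κ hκ using hchoose
    let Ψ : ↥N → Prod ↥(P0 : Subgroup G) ↥H := fun g => (κ g, ⟨(κ g : G)⁻¹ * g, Subgroup.mem_inf.2
      ⟨mul_mem (inv_mem (Sylow.smul_eq_iff_mem_normalizer.2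
        (Subgroup.le_normalizer (κ g).2) : (κ g : G) ∈ N)) g.2,
       show ((κ g : G)⁻¹ * g) • P1 = P1 by rw [mul_smul, ← hκ g, inv_smul_smul]⟩⟩)
    have hΨ : Function.Injective Ψ := fun g g' h => by
      have h1 : κ g = κ g' := congrArg Prod.fst h
      have h2 : (κ g : G)⁻¹ * g = (κ g' : G)⁻¹ * g' :=
        congrArg (fun p : Prod ↥(P0 : Subgroup G) ↥H => (p.2 : G)) h
      rw [h1] at h2
      exact Subtype.ext (mul_left_cancel h2)
    have h3 := Nat.card_le_card_of_injective Ψ hΨ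
    rw [Nat.card_prod, h2, hcard] at h3
    have := Nat.le_of_mul_le_mul_left h3 (by omega)
    omega
  have hbij : ∀ P : Oth2, Function.Bijective (fun h : H => (⟨(h : G) • P.1,
      fun e => P.2.1 (smul_left_cancel (h : G) (e.trans (Subgroup.mem_inf.1 h.2).1.symm)),
      fun e => P.2.2 (smul_left_cancel (h : G) (e.trans (Subgroup.mem_inf.1 h.2).2.symm))⟩ :
        Oth2)) := by
    intro P
    refine Function.Injective.bijective_of_nat_card_le (fun a b h => ?_) (by rw [hOth2]; exact hHcard)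
    have h' : (a : G) • P.1 = (b : G) • P.1 := congrArg Subtype.val h
    obtain ⟨h1, h2⟩ := Subgroup.mem_inf.1 (H.mul_mem (H.inv_mem b.2) a.2)
    exact Subtype.ext (inv_mul_eq_one.1 (hs _ P0 P1 P.1 hP1.symm P.2.1.symm P.2.2.symm h1 h2
      (by rw [mul_smul, h', inv_smul_smul]))).symm
  have key : ∀ {u v w : Sylow 2 G}, u ≠ v → u ≠ w → v ≠ w →
      ∃ g : G, g • u = P0 ∧ g • v = P1 ∧ g • w = P2 := by
    intro u v w huv huw hvw
    obtain ⟨x, hx⟩ := exists_smul_eq G u P0
    obtain ⟨k, hk⟩ := (hreg P1 hP1).2 ⟨x • v, fun e => huv (smul_left_cancel x (hx.trans e.symm))⟩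
    have hk' : (k : G) • P1 = x • v := congrArg Subtype.val hk
    have hk0 : (k : G) • P0 = P0 := Sylow.smul_eq_iff_mem_normalizer.2 (Subgroup.le_normalizer k.2)
    set y := (k : G)⁻¹ * x with hy
    have hyu : y • u = P0 := by rw [hy, mul_smul, hx, inv_smul_eq_iff, hk0]
    have hyv : y • v = P1 := by rw [hy, mul_smul, ← hk', inv_smul_smul]
    obtain ⟨h, hh⟩ := (hbij ⟨y • w, fun e => huw (smul_left_cancel y (hyu.trans e.symm)),
      fun e => hvw (smul_left_cancel y (hyv.trans e.symm))⟩).2 ⟨P2, hP2, hP21⟩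
    have hh' : (h : G) • y • w = P2 := congrArg Subtype.val hh
    obtain ⟨h1, h2⟩ := Subgroup.mem_inf.1 h.2
    exact ⟨(h : G) * y, by rw [mul_smul, hyu]; exact h1, by rw [mul_smul, hyv]; exact h2,
      by rw [mul_smul]; exact hh'⟩
  have h3 : IsMultiplyPretransitive G (Sylow 2 G) 3 := by
    refine ⟨fun x y => ?_⟩
    obtain ⟨g, g0, g1, g2⟩ := key (x.injective.ne (by decide : (0 : Fin 3) ≠ 1))
      (x.injective.ne (by decide : (0 : Fin 3) ≠ 2)) (x.injective.ne (by decide : (1 : Fin 3) ≠ 2))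
    obtain ⟨k, k0, k1, k2⟩ := key (y.injective.ne (by decide : (0 : Fin 3) ≠ 1))
      (y.injective.ne (by decide : (0 : Fin 3) ≠ 2)) (y.injective.ne (by decide : (1 : Fin 3) ≠ 2))
    refine ⟨k⁻¹ * g, Function.Embedding.ext fun i => ?_⟩
    show (k⁻¹ * g) • x i = y i
    rw [mul_smul, inv_smul_eq_iff]
    match i with
    | 0 => rw [g0, k0]
    | 1 => rw [g1, k1]
    | 2 => rw [g2, k2]
  haveI : FaithfulSMul G (Sylow 2 G) := ⟨fun {g g'} h => (inv_mul_eq_one.1 (hs (g'⁻¹ * g) P0 P1 P2
    hP1.symm hP2.symm hP21.symm (by rw [mul_smul, h, inv_smul_smul])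
    (by rw [mul_smul, h, inv_smul_smul]) (by rw [mul_smul, h, inv_smul_smul]))).symm⟩
  obtain ⟨F, iF, iFin, hF, ⟨φ⟩⟩ := CfsgLib.Classification.SharplyThreeProjective.even_case h3 hs
    (by rw [hn]; exact ⟨2 ^ e, by omega⟩) (by omega)
  rw [hn] at hF
  have hFc : Fintype.card F = 2 ^ (e + 1) := by rw [pow_succ']; omega
  have h2 : ringChar F = 2 := by
    obtain ⟨p, hp⟩ := CharP.exists F
    obtain ⟨k, hpp, hk⟩ := FiniteField.card F p
    rw [ringChar.eq F p]
    have hd : p ∣ 2 ^ (e + 1) := by rw [← hFc, hk]; exact dvd_pow_self p k.pos.ne'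
    exact (Nat.prime_dvd_prime_iff_eq hpp Nat.prime_two).1 (hpp.dvd_of_dvd_pow hd)
  obtain ⟨ψ⟩ := pgl_equiv_psl (F := F) h2
  let χ : G ≃* Matrix.ProjectiveSpecialLinearGroup (Fin 2) F := φ.trans ψ.symm
  let eM := M.equivMapOfInjective χ.toMonoidHom χ.injective
  have hcyc : IsCyclic ↥(M.map χ.toMonoidHom) := by
    refine isCyclic_of_psl h2 _ ?_ ?_
    · rw [← Nat.card_congr eM.toEquiv]; exact S.odd_card
    · intro a b
      obtain ⟨a, rfl⟩ := eM.surjective a
      obtain ⟨b, rfl⟩ := eM.surjective b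
      rw [← map_mul, ← map_mul, show a * b = b * a from Subtype.ext (S.comm a.2 b.2)]
  exact ⟨F, iF, iFin, e + 1, by omega, hFc, (MulEquiv.isCyclic eM).2 hcyc,
    by rw [hQ, pow_succ'], ⟨χ⟩⟩

/-- Two classes of involutions: a regular normal elementary abelian subgroup. -/
theorem affine_case {e : ℕ} (he : 2 ≤ e) (hQ : Nat.card M = 2 ^ e + 1)
    (hf : Nat.card (Pts M) = 2 ^ e * 2 ^ e)
    (hE : 2 ^ e * 2 ^ e ≤ Nat.card {s : G // orderOf s = 2 ∧ ¬ ∃ g, g * z * g⁻¹ = s} + 1) :
    ∃ (d : ℕ) (E : Subgroup G), 1 ≤ d ∧ E.Normal ∧ (IsMulCommutative E ∧ ∀ a ∈ E, a ^ 2 = 1) ∧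
      Nat.card E = 2 ^ (2 * d) ∧ E ⊓ Subgroup.normalizer (M : Set G) = ⊥ ∧
      E ⊔ Subgroup.normalizer (M : Set G) = ⊤ ∧
      Nonempty (↥(Subgroup.normalizer (M : Set G)) ≃* DihedralGroup (2 ^ d + 1)) := by
  classical
  haveI : Fact (Nat.Prime 2) := ⟨Nat.prime_two⟩
  set N := Subgroup.normalizer (M : Set G) with hN
  have hNmem : ∀ {n : G}, n ∈ N → n ∈ M ∨ ∃ m ∈ M, n = m * z := by
    intro n hn
    obtain ⟨m, hm, u, hu, huz, rfl⟩ := S.exists_split hn
    rcases S.cent_two hJ hr hu huz with rfl | rfl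
    · exact Or.inl (by rwa [mul_one])
    · exact Or.inr ⟨m, hm, rfl⟩
  let E := Cfsg.pCore 2 G
  haveI hEn : E.Normal := CfsgLib.Solvable.pCore_normal 2
  have hEp : IsPGroup 2 E := CfsgLib.Solvable.isPGroup_pCore 2
  have hEM : ∀ {m : G}, m ∈ E → m ∈ M → m = 1 := by
    intro m hmE hmM
    obtain ⟨k, hk⟩ := hEp ⟨m, hmE⟩
    have hk' : m ^ 2 ^ k = 1 := congrArg Subtype.val hk
    obtain ⟨i, -, hi⟩ := (Nat.dvd_prime_pow Nat.prime_two).1 (orderOf_dvd_of_pow_eq_one hk')
    have ho := S.odd_of_mem hmM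
    rw [hi] at ho
    rcases i with _ | i
    · rwa [pow_zero, orderOf_eq_one_iff] at hi
    · exact absurd ho (Nat.not_odd_iff_even.2 (even_two.pow_of_ne_zero i.succ_ne_zero))
  have hzE : z ∉ E := by
    intro hz
    obtain ⟨m, hm, hm1⟩ := S.exists_ne
    have h1 : z * (m * z * m⁻¹) ∈ E := E.mul_mem hz (hEn.conj_mem z hz m)
    have h2 : z * (m * z * m⁻¹) = m⁻¹ * m⁻¹ := by
      calc z * (m * z * m⁻¹) = (z * m * z) * m⁻¹ := by group
        _ = _ := by rw [S.zm hm]
    have h3 := hEM h1 (by rw [h2]; exact M.mul_mem (M.inv_mem hm) (M.inv_mem hm))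
    rw [h2] at h3
    have h4 := eq_one_of_mul_self_of_odd h3 (S.odd_of_mem (M.inv_mem hm))
    exact hm1 (inv_eq_one.1 h4)
  have hEN : E ⊓ N = ⊥ := by
    rw [Subgroup.eq_bot_iff_forall]
    intro n hn
    obtain ⟨hnE, hnN⟩ := Subgroup.mem_inf.1 hn
    rcases hNmem hnN with h | ⟨m, hm, rfl⟩
    · exact hEM hnE h
    · exfalso
      have hord : orderOf (m * z) = 2 := by
        refine orderOf_two_of_mul_self ?_ fun h => ?_
        · calc m * z * (m * z) = m * (z * m * z) := by group
            _ = 1 := by rw [S.zm hm, mul_inv_cancel]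
        · have hzM : z ∈ M := by rw [eq_inv_of_mul_eq_one_right h]; exact M.inv_mem hm
          exact ne_one_of_orderOf_two S.two (S.fpf_invol S.two hzM rfl)
      obtain ⟨k, -, hk⟩ := S.conj_z hord hnN
      apply hzE
      have := hEn.conj_mem _ hnE k⁻¹
      rwa [← hk, show k⁻¹ * (k * z * k⁻¹) * k⁻¹⁻¹ = z by group] at this
  have hG := S.card_group hJ hr
  rw [hQ, hf] at hG
  have hMindex : M.index = 2 * (2 ^ e * 2 ^ e) := by
    refine Nat.eq_of_mul_eq_mul_right (show 0 < Nat.card M from Nat.card_pos) ?_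
    rw [M.index_mul_card, hG, hQ]; ring
  -- involutions not conjugate to `z` lie in `E`
  have hin : ∀ s : G, orderOf s = 2 → (¬ ∃ g, g * z * g⁻¹ = s) → s ∈ E := by
    intro s hs hno
    by_contra hsE
    obtain ⟨h, h1, hodd, hinv⟩ := Cfsg.Agent.S0200.result s hs
      fun X hX hXp hsX => hsE (CfsgLib.Solvable.le_pCore (hn := hX) hXp hsX)
    obtain ⟨p, hp, hpd⟩ := Nat.exists_prime_and_dvd (fun e => h1 (orderOf_eq_one_iff.1 e))
    haveI := Fact.mk hp
    have hp2 : p ≠ 2 := fun e => absurd (even_iff_two_dvd.2 (e ▸ hpd)) (Nat.not_even_iff_odd.2 hodd)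
    obtain ⟨i, hi⟩ := hpd
    set y := h ^ i with hy
    have hyo : orderOf y = p := by
      rw [hy, orderOf_pow' h (by rintro rfl; simp [(orderOf_pos h).ne'] at hi), hi,
        Nat.gcd_eq_right (dvd_mul_left i p), Nat.mul_div_cancel _ (Nat.pos_of_ne_zero
          (by rintro rfl; simp [(orderOf_pos h).ne'] at hi))]
    have hyinv : s * y * s⁻¹ = y⁻¹ := by rw [hy, ← conj_pow, hinv, inv_pow]
    obtain ⟨P⟩ := Sylow.nonempty (p := p) (G := M)
    have hPp : IsPGroup p ↥((P : Subgroup M).map M.subtype) := P.2.map _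
    have hPnot : ¬ p ∣ ((P : Subgroup M).map M.subtype).index := by
      rw [Subgroup.index_map_subtype, hMindex, hp.dvd_mul, hp.dvd_mul, hp.dvd_mul]
      have h2' : ¬ p ∣ 2 := fun d => hp2 ((Nat.prime_dvd_prime_iff_eq hp Nat.prime_two).1 d)
      have h2e : ¬ p ∣ 2 ^ e := fun d => h2' (hp.dvd_of_dvd_pow d)
      simp only [h2', h2e, P.not_dvd_index, or_self, not_false_iff]
    obtain ⟨R, hR⟩ :=
      (IsPGroup.of_card (p := p) (n := 1) (by rw [pow_one, Nat.card_zpowers, hyo]) :
        IsPGroup p ↥(Subgroup.zpowers y)).exists_le_sylow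
    obtain ⟨g, hg⟩ := exists_smul_eq G (hPp.toSylow hPnot) R
    have hyR : y ∈ ((g • hPp.toSylow hPnot : Sylow p G) : Subgroup G) := by
      rw [hg]; exact hR (Subgroup.mem_zpowers y)
    rw [Sylow.coe_subgroup_smul, Subgroup.mem_pointwise_smul_iff_inv_smul_mem] at hyR
    have hy' : g⁻¹ * y * g ∈ M := by
      have : g⁻¹ * y * g ∈ (P : Subgroup M).map M.subtype := by
        simpa [MulAut.smul_def, mul_assoc] using hyR
      exact Subgroup.map_subtype_le _ this
    have hy1 : g⁻¹ * y * g ≠ 1 := fun e => hp.one_lt.ne (by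
      rw [← hyo, show y = g * (g⁻¹ * y * g) * g⁻¹ by group, e]; simp)
    set s' := g⁻¹ * s * g with hs'
    have hs'2 : orderOf s' = 2 := by
      rw [hs', show g⁻¹ * s * g = MulAut.conj g⁻¹ s by simp, MulEquiv.orderOf_eq, hs]
    have hs'N : s' ∈ N := by
      refine S.mem_N hy' hy1 ?_
      rw [show s' * (g⁻¹ * y * g) * s'⁻¹ = g⁻¹ * (s * y * s⁻¹) * g by rw [hs']; group, hyinv,
        show g⁻¹ * y⁻¹ * g = (g⁻¹ * y * g)⁻¹ by group]
      exact M.inv_mem hy'
    obtain ⟨k, -, hk⟩ := S.conj_z hs'2 hs'N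
    exact hno ⟨g * k, by
      rw [show g * k * z * (g * k)⁻¹ = g * (k * z * k⁻¹) * g⁻¹ by group, hk, hs']; group⟩
  let F1 : E → Pts M := fun x => (x : G) • base M
  have hF1 : Function.Injective F1 := by
    intro a b h
    have h1 : (b : G)⁻¹ * a ∈ E ⊓ N := Subgroup.mem_inf.2 ⟨E.mul_mem (E.inv_mem b.2) a.2,
      smul_base_iff.1 (by rw [mul_smul, show (a : G) • base M = (b : G) • base M from h,
        inv_smul_smul])⟩
    rw [hEN, Subgroup.mem_bot] at h1
    exact Subtype.ext (inv_mul_eq_one.1 h1).symm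
  let F2 : Option {s : G // orderOf s = 2 ∧ ¬ ∃ g, g * z * g⁻¹ = s} → E := fun o =>
    o.elim 1 fun s => ⟨s.1, hin s.1 s.2.1 s.2.2⟩
  have hF2 : Function.Injective F2 := by
    rintro (_ | a) (_ | b) h
    · rfl
    · exact absurd (congrArg Subtype.val h).symm (ne_one_of_orderOf_two b.2.1)
    · exact absurd (congrArg Subtype.val h) (ne_one_of_orderOf_two a.2.1)
    · exact congrArg some (Subtype.ext (congrArg Subtype.val h :))
  have hle := Nat.card_le_card_of_injective F1 hF1
  have hge := Nat.card_le_card_of_injective F2 hF2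
  rw [Finite.card_option] at hge
  rw [hf] at hle
  have hEcard : Nat.card E = 2 ^ e * 2 ^ e := by omega
  have hF1b := hF1.bijective_of_nat_card_le (by rw [hf, hEcard])
  have hF2b := hF2.bijective_of_nat_card_le (by rw [Finite.card_option]; omega)
  have hsq : ∀ a ∈ E, a * a = 1 := by
    intro a ha
    obtain ⟨o, ho⟩ := hF2b.2 ⟨a, ha⟩
    rcases o with _ | s
    · have : (1 : G) = a := congrArg Subtype.val ho
      rw [← this, mul_one]
    · have : s.1 = a := congrArg Subtype.val ho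
      rw [← this, mul_self_of_orderOf_two s.2.1]
  have hfpf : ∀ h ∈ M, h ≠ 1 → E ⊓ Subgroup.centralizer {h} = ⊥ := by
    intro h hh h1
    rw [Subgroup.eq_bot_iff_forall]
    intro x hx
    obtain ⟨hxE, hxc⟩ := Subgroup.mem_inf.1 hx
    rw [Subgroup.mem_centralizer_singleton_iff] at hxc
    have hxN : x ∈ N := S.mem_N hh h1 (by rw [hxc, mul_inv_cancel_right]; exact hh)
    have : x ∈ E ⊓ N := Subgroup.mem_inf.2 ⟨hxE, hxN⟩
    rwa [hEN, Subgroup.mem_bot] at this
  have hEne : E ≠ ⊥ := fun h0 => by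
    rw [h0, Subgroup.card_bot] at hEcard
    have h4 : 2 ^ 2 ≤ 2 ^ e := Nat.pow_le_pow_right (by norm_num) he
    nlinarith
  haveI : IsMulCommutative M := ⟨⟨fun a b => Subtype.ext (S.comm a.2 b.2)⟩⟩
  haveI hMc : IsCyclic M := CfsgLib.Solvable.isCyclic_of_fpf_comm hEne hfpf le_rfl
  obtain ⟨⟨m0, hm0⟩, hgen⟩ := hMc.exists_generator
  have hm0o : orderOf m0 = Nat.card M := by
    rw [← Subgroup.orderOf_mk m0 hm0, orderOf_eq_card_of_forall_mem_zpowers hgen]
  have hne : z ≠ z * m0 := fun h => by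
    have : m0 = 1 := mul_left_cancel (a := z) (by rw [← h, mul_one])
    rw [this, orderOf_one, hQ] at hm0o
    have : 0 < 2 ^ e := by positivity
    omega
  have hcl : Subgroup.closure ({z, z * m0} : Set G) = N := by
    refine le_antisymm ((Subgroup.closure_le _).2 ?_) fun n hn => ?_
    · rintro x (rfl | rfl)
      · exact S.mem
      · exact mul_mem S.mem (Subgroup.le_normalizer hm0)
    · have hzc : z ∈ Subgroup.closure ({z, z * m0} : Set G) :=
        Subgroup.subset_closure (Or.inl rfl)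
      have hmc : m0 ∈ Subgroup.closure ({z, z * m0} : Set G) := by
        have := mul_mem hzc
          (Subgroup.subset_closure (k := ({z, z * m0} : Set G)) (Or.inr rfl : z * m0 ∈ _))
        rwa [← mul_assoc, S.zz, one_mul] at this
      have hMc' : M ≤ Subgroup.closure ({z, z * m0} : Set G) := by
        intro m hm
        obtain ⟨i, hi⟩ := Subgroup.mem_zpowers_iff.1 (hgen ⟨m, hm⟩)
        have : m0 ^ i = m := by simpa using congrArg Subtype.val hi
        rw [← this]
        exact zpow_mem hmc i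
      rcases hNmem hn with h | ⟨m, hm, rfl⟩
      · exact hMc' h
      · exact mul_mem (hMc' hm) hzc
  obtain ⟨δ⟩ := Cfsg.Agent.S0206.result z (z * m0) S.two (S.zm_invol hm0) hne
  rw [← mul_assoc, S.zz, one_mul, hm0o, hQ] at δ
  refine ⟨e, E, by omega, hEn, ⟨⟨⟨fun a b => Subtype.ext ?_⟩⟩, fun a ha => by rw [pow_two, hsq a ha]⟩,
    by rw [hEcard, two_mul, pow_add], hEN, ?_,
    ⟨(MulEquiv.subgroupCongr hcl.symm).trans δ⟩⟩
  · show (a : G) * b = b * a
    have h1 := inv_eq_of_mul_eq_one_right (hsq _ (E.mul_mem a.2 b.2))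
    rw [mul_inv_rev, inv_eq_of_mul_eq_one_right (hsq _ a.2),
      inv_eq_of_mul_eq_one_right (hsq _ b.2)] at h1
    exact h1.symm
  · refine eq_top_iff.2 fun g _ => ?_
    obtain ⟨x, hx⟩ := hF1b.2 (g • base M)
    have hxN : (x : G)⁻¹ * g ∈ N :=
      smul_base_iff.1 (by rw [mul_smul, ← show (x : G) • base M = g • base M from hx, inv_smul_smul])
    rw [show g = (x : G) * ((x : G)⁻¹ * g) by group]
    exact Subgroup.mul_mem_sup x.2 hxN

end Setup

end CfsgLib.BenderTI
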