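import Cfsg.Agent.LocalEvenBasic.BenderTI.Core

/-!
# The action on the cosets of `N(M)`
-/

set_option autoImplicit false
set_option linter.unusedSectionVars false

namespace CfsgLib.BenderTI

open MulAction

variable {G : Type*} [Group G] [Finite G]

/-- The cosets of `N(M)`. -/
abbrev Pts (M : Subgroup G) : Type _ := G ⧸ Subgroup.normalizer (M : Set G)

/-- The coset `N(M)`. -/
abbrev base (M : Subgroup G) : Pts M := ((1 : G) : Pts M)

theorem smul_base_iff {M : Subgroup G} {g : G} :
    g • base M = base M ↔ g ∈ Subgroup.normalizer (M : Set G) := by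
  rw [← MulAction.mem_stabilizer_iff, MulAction.stabilizer_quotient]

theorem mem_stab_pair {M : Subgroup G} {t d : G} :
    (d • base M = base M ∧ d • (t • base M) = t • base M) ↔ Setup.InD M t⁻¹ d := by
  rw [Setup.InD, inv_inv, smul_base_iff, ← smul_base_iff (g := t⁻¹ * d * t), mul_smul, mul_smul,
    inv_smul_eq_iff]

namespace Setup

variable {M : Subgroup G} {z : G} (S : Setup M z)
variable (hJ : M.index < Nat.card {g : G // orderOf g = 2})
include S hJ

/-- Every other point is `t • base` for an involution `t`. -/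
theorem exists_rep {x : Pts M} (hx : x ≠ base M) :
    ∃ t, orderOf t = 2 ∧ t ∉ Subgroup.normalizer (M : Set G) ∧ t • base M = x ∧
      t • x = base M := by
  induction x using QuotientGroup.induction_on with
  | H g =>
    have hg1 : g • base M = (g : Pts M) := by
      show ((g * 1 : G) : Pts M) = _
      rw [mul_one]
    have hg : g ∉ Subgroup.normalizer (M : Set G) := fun h => hx (by rw [← hg1, smul_base_iff.2 h])
    obtain ⟨t, m, ht, htN, hm, rfl⟩ := S.exists_invol hJ hg
    have htx : t • base M = ((t * m : G) : Pts M) := by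
      rw [← hg1, mul_smul, smul_base_iff.2 (Subgroup.le_normalizer hm)]
    exact ⟨t, ht, htN, htx, by rw [← htx, ← mul_smul, mul_self_of_orderOf_two ht, one_smul]⟩

theorem inD_of_fix {t d : G} (ht : orderOf t = 2) (h0 : d • base M = base M)
    (hx : d • (t • base M) = t • base M) : InD M t d := by
  have h := mem_stab_pair.1 ⟨h0, hx⟩
  rwa [inv_of_orderOf_two ht] at h

theorem fix_of_inD {t d : G} (ht : orderOf t = 2) (h : InD M t d) :
    d • base M = base M ∧ d • (t • base M) = t • base M := by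
  rw [← inv_of_orderOf_two ht] at h
  exact mem_stab_pair.2 h

theorem fix_z_base : z • base M = base M := smul_base_iff.2 S.mem

theorem M_fix {m : G} (hm : m ∈ M) : m • base M = base M :=
  smul_base_iff.2 (Subgroup.le_normalizer hm)

/-- `M` moves every other point freely. -/
theorem free {x : Pts M} (hx : x ≠ base M) {m : G} (hm : m ∈ M) (h : m • x = x) : m = 1 := by
  obtain ⟨t, ht, htN, rfl, -⟩ := S.exists_rep hJ hx
  exact S.inD_trivial hJ ht htN hm (S.inD_of_fix hJ ht (S.M_fix hJ hm) h)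

/-- A fixed point of `z` other than `base` is `t • base` with `t` commuting with `z`. -/
theorem exists_rep_fixed {x : Pts M} (hx : x ≠ base M) (hz : z • x = x) :
    ∃ t, orderOf t = 2 ∧ t ∉ Subgroup.normalizer (M : Set G) ∧ t • base M = x ∧
      t • x = base M ∧ t * z = z * t := by
  obtain ⟨t, ht, htN, htx, htx'⟩ := S.exists_rep hJ hx
  refine ⟨t, ht, htN, htx, htx', ?_⟩
  have h := S.inD_inverted hJ ht htN
    (S.inD_of_fix hJ ht (S.fix_z_base hJ) (by rw [htx]; exact hz))
  rw [S.zinv] at h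
  conv_rhs => rw [← h]
  group

/-- The two point stabiliser at a fixed point of `z`. -/
theorem stab_pair {x : Pts M} (hx : x ≠ base M) (hz : z • x = x) :
    stabilizer G (base M) ⊓ stabilizer G x =
      Subgroup.normalizer (M : Set G) ⊓ Subgroup.centralizer ({z} : Set G) := by
  obtain ⟨t, ht, htN, rfl, -, htz⟩ := S.exists_rep_fixed hJ hx hz
  ext d
  rw [Subgroup.mem_inf, Subgroup.mem_inf, Subgroup.mem_centralizer_singleton_iff,
    ← S.inD_iff_commute hJ ht htN S.two S.mem htz]
  exact ⟨fun h => S.inD_of_fix hJ ht h.1 h.2, fun h => S.fix_of_inD hJ ht h⟩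

/-- The centraliser of `z` in `N(M)` is abelian. -/
theorem cent_comm {x : Pts M} (hx : x ≠ base M) (hz : z • x = x) {a b : G}
    (ha : a ∈ Subgroup.normalizer (M : Set G) ⊓ Subgroup.centralizer ({z} : Set G))
    (hb : b ∈ Subgroup.normalizer (M : Set G) ⊓ Subgroup.centralizer ({z} : Set G)) :
    a * b = b * a := by
  obtain ⟨t, ht, htN, -, -, htz⟩ := S.exists_rep_fixed hJ hx hz
  rw [Subgroup.mem_inf, Subgroup.mem_centralizer_singleton_iff] at ha hb
  exact S.inD_comm hJ ht htN ((S.inD_iff_commute hJ ht htN S.two S.mem htz).2 ha)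
    ((S.inD_iff_commute hJ ht htN S.two S.mem htz).2 hb)

/-- Every other point is an `M`-translate of a fixed point of `z`. -/
theorem cover {y : Pts M} (hy : y ≠ base M) :
    ∃ k ∈ M, ∃ x : Pts M, x ≠ base M ∧ z • x = x ∧ k • x = y := by
  obtain ⟨t, ht, htN, rfl, -⟩ := S.exists_rep hJ hy
  obtain ⟨s, hs, hsN, hts⟩ := S.exists_commuting hJ ht htN
  obtain ⟨k, hk, hks⟩ := S.conj_z hs hsN
  refine ⟨k, hk, k⁻¹ • (t • base M), fun h => hy ?_, ?_, smul_inv_smul k _⟩
  · rw [inv_smul_eq_iff] at h; rw [h, S.M_fix hJ hk]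
  · have hfix := (S.fix_of_inD hJ ht
      (⟨hsN, by rw [hts, mul_inv_cancel_right]; exact hsN⟩ : InD M t s)).2
    rw [← hks] at hfix
    rw [mul_smul, mul_smul] at hfix
    rw [eq_inv_smul_iff]
    exact hfix

theorem cover_unique {x : Pts M} (hx : x ≠ base M) (hz : z • x = x) {k : G} (hk : k ∈ M)
    (h : z • (k • x) = k • x) : k = 1 := by
  obtain ⟨t, ht, htN, rfl, -, htz⟩ := S.exists_rep_fixed hJ hx hz
  have hkN : k ∈ Subgroup.normalizer (M : Set G) := Subgroup.le_normalizer hk
  have hs : orderOf (k⁻¹ * z * k) = 2 := by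
    rw [show k⁻¹ * z * k = MulAut.conj k⁻¹ z by simp, MulEquiv.orderOf_eq, S.two]
  have hsN : k⁻¹ * z * k ∈ Subgroup.normalizer (M : Set G) :=
    mul_mem (mul_mem (inv_mem hkN) S.mem) hkN
  have hfix : (k⁻¹ * z * k) • (t • base M) = t • base M := by
    rw [mul_smul, mul_smul, h, inv_smul_smul]
  have hd := S.inD_of_fix hJ ht (smul_base_iff.2 hsN) hfix
  have hst : t * (k⁻¹ * z * k) = (k⁻¹ * z * k) * t := by
    have h1 := S.inD_inverted hJ ht htN hd
    rw [inv_of_orderOf_two hs] at h1
    conv_rhs => rw [← h1]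
    group
  have he := S.commuting_unique hJ ht htN hs hsN hst S.two S.mem htz
  refine S.fpf_invol S.two hk ?_
  calc z * k = k * (k⁻¹ * z * k) := by group
    _ = k * z := by rw [he]

/-- The other points in terms of the fixed points of `z`. -/
theorem card_points :
    Nat.card (Pts M) = Nat.card M * Nat.card {x : Pts M // x ≠ base M ∧ z • x = x} + 1 := by
  classical
  haveI := Fintype.ofFinite (Pts M)
  let F : M × {x : Pts M // x ≠ base M ∧ z • x = x} → {y : Pts M // y ≠ base M} := fun p =>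
    ⟨(p.1 : G) • p.2.1, fun h => p.2.2.1 (smul_left_cancel (p.1 : G)
      (h.trans (S.M_fix hJ p.1.2).symm))⟩
  have hF : Function.Bijective F := by
    refine ⟨fun p q h => ?_, fun y => ?_⟩
    · have h' : (p.1 : G) • p.2.1 = (q.1 : G) • q.2.1 := congrArg Subtype.val h
      have hk : ((q.1 : G)⁻¹ * p.1) • p.2.1 = q.2.1 := by rw [mul_smul, h', inv_smul_smul]
      have h1 := S.cover_unique hJ p.2.2.1 p.2.2.2 (M.mul_mem (M.inv_mem q.1.2) p.1.2)
        (by rw [hk]; exact q.2.2.2)
      rw [h1, one_smul] at hk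
      exact Prod.ext (Subtype.ext (inv_mul_eq_one.1 h1).symm) (Subtype.ext hk)
    · obtain ⟨k, hk, x, hx, hzx, he⟩ := S.cover hJ y.2
      exact ⟨(⟨k, hk⟩, ⟨x, hx, hzx⟩), Subtype.ext he⟩
  have h1 := Nat.card_eq_of_bijective F hF
  rw [Nat.card_prod] at h1
  rw [h1, Nat.card_eq_fintype_card (α := Pts M), Nat.card_eq_fintype_card,
    Fintype.card_subtype_compl, Fintype.card_subtype_eq]
  have := Fintype.card_pos (α := Pts M)
  omega

omit hJ in
/-- `|N(M)| = |M| |C_N(z)|`. -/
theorem card_normalizer :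
    Nat.card ↥(Subgroup.normalizer (M : Set G)) = Nat.card M *
      Nat.card ↥(Subgroup.normalizer (M : Set G) ⊓ Subgroup.centralizer ({z} : Set G)) := by
  let F : M × ↥(Subgroup.normalizer (M : Set G) ⊓ Subgroup.centralizer ({z} : Set G)) →
      ↥(Subgroup.normalizer (M : Set G)) := fun p =>
    ⟨p.1 * p.2, mul_mem (Subgroup.le_normalizer p.1.2) (Subgroup.mem_inf.1 p.2.2).1⟩
  have hF : Function.Bijective F := by
    refine ⟨fun p q h => ?_, fun n => ?_⟩
    · have h' : (p.1 : G) * p.2 = q.1 * q.2 := congrArg Subtype.val h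
      have he : (q.1 : G)⁻¹ * p.1 = q.2 * (p.2 : G)⁻¹ := by
        calc (q.1 : G)⁻¹ * p.1 = (q.1 : G)⁻¹ * (p.1 * p.2) * (p.2 : G)⁻¹ := by group
          _ = _ := by rw [h']; group
      have hc : (q.2 : G) * (p.2 : G)⁻¹ ∈ Subgroup.centralizer ({z} : Set G) :=
        mul_mem (Subgroup.mem_inf.1 q.2.2).2 (inv_mem (Subgroup.mem_inf.1 p.2.2).2)
      have h1 : (q.1 : G)⁻¹ * p.1 = 1 := by
        refine S.fpf_invol S.two (M.mul_mem (M.inv_mem q.1.2) p.1.2) ?_
        rw [he]
        exact (Subgroup.mem_centralizer_singleton_iff.1 hc).symm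
      have h2 : (p.1 : G) = q.1 := (inv_mul_eq_one.1 h1).symm
      rw [h2] at h'
      exact Prod.ext (Subtype.ext h2) (Subtype.ext (mul_left_cancel h'))
    · obtain ⟨m, hm, u, hu, huz, he⟩ := S.exists_split n.2
      exact ⟨(⟨m, hm⟩, ⟨u, Subgroup.mem_inf.2 ⟨hu, Subgroup.mem_centralizer_singleton_iff.2 huz⟩⟩),
        Subtype.ext he.symm⟩
  rw [← Nat.card_eq_of_bijective F hF, Nat.card_prod]

end Setup

end CfsgLib.BenderTI
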