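import Mathlib
import Cfsg.Agent.GraphSimple.Tools

/-!
# A TI-subgroup inverted by an involution, with many involutions in the group

`M` is a TI-subgroup, `z` an involution of `N(M)` with `N(M) = M C_N(z)` and the centralisers of
the elements of `M` other than `1` have odd order.  If the number of involutions exceeds `|G : M|`
then every coset of `M` outside `N(M)` contains exactly one involution, and for every involution
`t ∉ N(M)` the group `N(M) ∩ N(M)^t` is an abelian complement of `M` in `N(M)` inverted by `t`.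
-/

set_option autoImplicit false
set_option linter.unusedSectionVars false

namespace CfsgLib.BenderTI

open scoped Pointwise

variable {G : Type*} [Group G] [Finite G]

/-- The hypotheses on `M` and `z`. -/
structure Setup (M : Subgroup G) (z : G) : Prop where
  ne_bot : M ≠ ⊥
  ti : ∀ g : G, M ⊓ M.map (MulAut.conj g).toMonoidHom ≠ ⊥ →
    M.map (MulAut.conj g).toMonoidHom = M
  two : orderOf z = 2
  mem : z ∈ Subgroup.normalizer (M : Set G)
  fac : M ⊔ (Subgroup.normalizer (M : Set G) ⊓ Subgroup.centralizer ({z} : Set G)) =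
    Subgroup.normalizer (M : Set G)
  odd : ∀ x ∈ M, x ≠ 1 → Odd (Nat.card ↥(Subgroup.centralizer ({x} : Set G)))

theorem mul_self_of_orderOf_two {t : G} (ht : orderOf t = 2) : t * t = 1 := by
  rw [← pow_two, ← ht, pow_orderOf_eq_one]

theorem inv_of_orderOf_two {t : G} (ht : orderOf t = 2) : t⁻¹ = t :=
  inv_eq_of_mul_eq_one_right (mul_self_of_orderOf_two ht)

theorem ne_one_of_orderOf_two {t : G} (ht : orderOf t = 2) : t ≠ 1 := fun h => by
  rw [h, orderOf_one] at ht; omega

theorem orderOf_two_of_mul_self {t : G} (ht : t * t = 1) (h1 : t ≠ 1) : orderOf t = 2 :=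
  orderOf_eq_prime (by rw [pow_two, ht]) h1

theorem eq_one_of_mul_self_of_odd {x : G} (hx : x * x = 1) (ho : Odd (orderOf x)) : x = 1 := by
  obtain ⟨k, hk⟩ := ho
  have h := pow_orderOf_eq_one x
  rwa [hk, pow_succ, pow_mul, pow_two, hx, one_pow, one_mul] at h

namespace Setup

variable {M : Subgroup G} {z : G} (S : Setup M z)
include S

theorem zz : z * z = 1 := mul_self_of_orderOf_two S.two

theorem zinv : z⁻¹ = z := inv_of_orderOf_two S.two

theorem conj_mem {n x : G} (hn : n ∈ Subgroup.normalizer (M : Set G)) (hx : x ∈ M) :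
    n * x * n⁻¹ ∈ M :=
  (Subgroup.mem_normalizer_iff.1 hn x).1 hx

theorem conj_mem' {n x : G} (hn : n ∈ Subgroup.normalizer (M : Set G)) (hx : x ∈ M) :
    n⁻¹ * x * n ∈ M := by
  simpa using S.conj_mem (inv_mem hn) hx

/-- Trivial intersection. -/
theorem mem_N {g m : G} (hm : m ∈ M) (hm1 : m ≠ 1) (h : g * m * g⁻¹ ∈ M) :
    g ∈ Subgroup.normalizer (M : Set G) := by
  have hne : M ⊓ M.map (MulAut.conj g).toMonoidHom ≠ ⊥ := by
    intro e
    have hmem : g * m * g⁻¹ ∈ M ⊓ M.map (MulAut.conj g).toMonoidHom :=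
      ⟨h, Subgroup.mem_map.2 ⟨m, hm, rfl⟩⟩
    rw [e, Subgroup.mem_bot] at hmem
    exact hm1 (conj_eq_one_iff.1 hmem)
  have he := S.ti g hne
  refine Subgroup.mem_normalizer_iff.2 fun x => ⟨fun hx => ?_, fun hx => ?_⟩
  · rw [← he]; exact Subgroup.mem_map.2 ⟨x, hx, rfl⟩
  · rw [← he] at hx
    obtain ⟨y, hy, hyx⟩ := Subgroup.mem_map.1 hx
    have : g * y * g⁻¹ = g * x * g⁻¹ := hyx
    have e : y = x := mul_left_cancel (mul_right_cancel this)
    exact e ▸ hy

theorem odd_of_commute {m x : G} (hm : m ∈ M) (hm1 : m ≠ 1) (hc : x * m = m * x) :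
    Odd (orderOf x) := by
  have hx : x ∈ Subgroup.centralizer ({m} : Set G) := Subgroup.mem_centralizer_singleton_iff.2 hc
  have hd := Subgroup.orderOf_dvd_natCard _ hx
  exact (S.odd m hm hm1).of_dvd_nat hd

theorem exists_ne : ∃ m ∈ M, m ≠ 1 := by
  by_contra h
  push Not at h
  exact S.ne_bot ((Subgroup.eq_bot_iff_forall _).2 h)

theorem odd_of_mem {x : G} (hx : x ∈ M) : Odd (orderOf x) := by
  by_cases h1 : x = 1
  · rw [h1, orderOf_one]; exact odd_one
  · exact S.odd_of_commute hx h1 rfl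

theorem odd_card : Odd (Nat.card M) := by
  rw [← Nat.not_even_iff_odd]
  intro he
  obtain ⟨x, hx⟩ := exists_prime_orderOf_dvd_card' (G := M) 2 (hp := ⟨Nat.prime_two⟩) he.two_dvd
  have h := S.odd_of_mem x.2
  rw [Subgroup.orderOf_coe, hx] at h
  exact absurd h (by decide)

/-- An involution of `N(M)` has no fixed point on `M`. -/
theorem fpf_invol {t y : G} (ht : orderOf t = 2) (hy : y ∈ M) (hc : t * y = y * t) : y = 1 := by
  by_contra h1
  have h := S.odd_of_commute hy h1 hc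
  rw [ht] at h
  exact absurd h (by decide)

theorem invol_inverts {t : G} (ht : orderOf t = 2) (htN : t ∈ Subgroup.normalizer (M : Set G))
    {m : G} (hm : m ∈ M) : t * m * t = m⁻¹ :=
  CfsgLib.GraphSimple.inverts_of_fpf (mul_self_of_orderOf_two ht) htN
    (fun _ hy hc => S.fpf_invol ht hy hc) hm

theorem zm {m : G} (hm : m ∈ M) : z * m * z = m⁻¹ := S.invol_inverts S.two S.mem hm

theorem comm {a b : G} (ha : a ∈ M) (hb : b ∈ M) : a * b = b * a := by
  have h1 := S.zm (M.mul_mem (M.inv_mem hb) (M.inv_mem ha))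
  rw [mul_inv_rev, inv_inv, inv_inv] at h1
  calc a * b = z * (b⁻¹ * a⁻¹) * z := h1.symm
    _ = z * b⁻¹ * (z * z) * a⁻¹ * z := by rw [S.zz]; group
    _ = (z * b⁻¹ * z) * (z * a⁻¹ * z) := by group
    _ = b * a := by rw [S.zm (M.inv_mem hb), S.zm (M.inv_mem ha), inv_inv, inv_inv]

theorem exists_split {n : G} (hn : n ∈ Subgroup.normalizer (M : Set G)) :
    ∃ m ∈ M, ∃ u, u ∈ Subgroup.normalizer (M : Set G) ∧ u * z = z * u ∧ n = m * u := by
  have hle : Subgroup.normalizer (M : Set G) ⊓ Subgroup.centralizer ({z} : Set G) ≤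
      Subgroup.normalizer (M : Set G) := inf_le_left
  have hn' : n ∈ ((M : Set G) * ((Subgroup.normalizer (M : Set G) ⊓
      Subgroup.centralizer ({z} : Set G) : Subgroup G) : Set G)) := by
    rw [← Subgroup.coe_mul_of_right_le_normalizer_left M _ hle, S.fac]; exact hn
  obtain ⟨m, hm, u, hu, rfl⟩ := Set.mem_mul.1 hn'
  obtain ⟨huN, huz⟩ := Subgroup.mem_inf.1 hu
  exact ⟨m, hm, u, huN, Subgroup.mem_centralizer_singleton_iff.1 huz, rfl⟩

theorem zm_invol {m : G} (hm : m ∈ M) : orderOf (z * m) = 2 := by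
  refine orderOf_two_of_mul_self ?_ ?_
  · calc z * m * (z * m) = (z * m * z) * m := by group
      _ = 1 := by rw [S.zm hm, inv_mul_cancel]
  · intro h
    have hzM : z ∈ M := by rw [eq_inv_of_mul_eq_one_left h]; exact M.inv_mem hm
    have := S.odd_of_mem hzM
    rw [S.two] at this
    exact absurd this (by decide)

/-- The involutions of `N(M)` form the coset `z M`. -/
theorem invol_mem {t : G} (ht : orderOf t = 2) (htN : t ∈ Subgroup.normalizer (M : Set G)) :
    ∃ m ∈ M, t = z * m := by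
  obtain ⟨a, ha, ha1⟩ := S.exists_ne
  have hti := mul_self_of_orderOf_two ht
  have hxc : ∀ c ∈ M, (z * t) * c = c * (z * t) := by
    intro c hc
    have h1 := S.invol_inverts ht htN hc
    have h2 := S.zm (M.inv_mem hc)
    calc (z * t) * c = z * (t * c * t) * t := by
            rw [show z * (t * c * t) * t = z * t * c * (t * t) by group, hti, mul_one]
      _ = z * c⁻¹ * (z * z) * t := by rw [h1, S.zz, mul_one]
      _ = (z * c⁻¹ * z) * (z * t) := by group
      _ = c * (z * t) := by rw [h2, inv_inv]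
  obtain ⟨m, hm, u, -, huz, hmu⟩ := S.exists_split (mul_mem S.mem htN)
  have huc : u * m = m * u := by
    have h := hxc m hm
    rw [hmu] at h
    exact mul_left_cancel (a := m) (by simpa only [mul_assoc] using h)
  have hzt : z * (m * u) * z = (m * u)⁻¹ := by
    rw [← hmu, mul_inv_rev, inv_of_orderOf_two ht, S.zinv, ← mul_assoc, S.zz, one_mul]
  have hu2 : u * u = 1 := by
    have h : m⁻¹ * u = u⁻¹ * m⁻¹ := by
      calc m⁻¹ * u = z * m * z * u := by rw [S.zm hm]
        _ = z * m * (u * z) := by rw [huz]; group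
        _ = z * (m * u) * z := by group
        _ = u⁻¹ * m⁻¹ := by rw [hzt, mul_inv_rev]
    have h' : u⁻¹ * m⁻¹ = m⁻¹ * u⁻¹ := by rw [← mul_inv_rev, ← mul_inv_rev, huc]
    rw [h'] at h
    have h3 := mul_left_cancel h
    nth_rewrite 2 [h3]
    rw [mul_inv_cancel]
  have hu1 : u = 1 := by
    refine eq_one_of_mul_self_of_odd hu2 (S.odd_of_commute ha ha1 ?_)
    have h := hxc a ha
    rw [hmu] at h
    refine mul_left_cancel (a := m) ?_
    calc m * (u * a) = m * u * a := by group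
      _ = a * (m * u) := h
      _ = (a * m) * u := by group
      _ = (m * a) * u := by rw [S.comm ha hm]
      _ = m * (a * u) := by group
  refine ⟨m, hm, ?_⟩
  rw [hu1, mul_one] at hmu
  rw [← hmu, ← mul_assoc, S.zz, one_mul]

/-- A square root in the odd abelian group `M`. -/
theorem exists_sqrt {m : G} (hm : m ∈ M) : ∃ k ∈ M, k * k = m := by
  obtain ⟨j, hj⟩ := S.odd_of_mem hm
  refine ⟨m ^ (j + 1), M.pow_mem hm _, ?_⟩
  rw [← pow_add, show j + 1 + (j + 1) = orderOf m + 1 by omega, pow_succ, pow_orderOf_eq_one,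
    one_mul]

/-- The involutions of `N(M)` are conjugate to `z` under `M`. -/
theorem conj_z {t : G} (ht : orderOf t = 2) (htN : t ∈ Subgroup.normalizer (M : Set G)) :
    ∃ k ∈ M, k * z * k⁻¹ = t := by
  obtain ⟨m, hm, rfl⟩ := S.invol_mem ht htN
  obtain ⟨r, hr, hrm⟩ := S.exists_sqrt hm
  refine ⟨r⁻¹, M.inv_mem hr, ?_⟩
  have h := S.zm hr
  calc r⁻¹ * z * r⁻¹⁻¹ = (z * r * z) * z * r := by rw [h]; group
    _ = z * r * (z * z) * r := by group
    _ = z * m := by rw [S.zz, mul_one, mul_assoc, hrm]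

/-- A coset of `M` outside `N(M)` holds at most one involution. -/
theorem coset_unique {t m : G} (ht : t * t = 1) (htN : t ∉ Subgroup.normalizer (M : Set G))
    (hm : m ∈ M) (h : t * m * (t * m) = 1) : m = 1 := by
  by_contra h1
  apply htN
  refine S.mem_N hm h1 ?_
  rw [inv_eq_of_mul_eq_one_right ht]
  have : t * m * t = m⁻¹ := eq_inv_of_mul_eq_one_left (by rw [← h]; group)
  rw [this]
  exact M.inv_mem hm

theorem free_left {g m : G} (hg : g ∉ Subgroup.normalizer (M : Set G)) (hm : m ∈ M)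
    (h : g⁻¹ * m * g ∈ M) : m = 1 := by
  by_contra h1
  refine hg ?_
  have hne : g⁻¹ * m * g ≠ 1 := fun e => h1 (by
    have := congrArg (fun x => g * x * g⁻¹) e
    simpa [mul_assoc] using this)
  exact S.mem_N h hne (by rw [show g * (g⁻¹ * m * g) * g⁻¹ = m by group]; exact hm)

/-- With more than `|G : M|` involutions every coset outside `N(M)` holds an involution. -/
theorem exists_invol (hJ : M.index < Nat.card {g : G // orderOf g = 2}) {g : G}
    (hg : g ∉ Subgroup.normalizer (M : Set G)) :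
    ∃ t m, orderOf t = 2 ∧ t ∉ Subgroup.normalizer (M : Set G) ∧ m ∈ M ∧ g = t * m := by
  classical
  by_contra hnone
  let N := Subgroup.normalizer (M : Set G)
  let J := {g : G // orderOf g = 2}
  let π : G → G ⧸ M := fun x => (x : G ⧸ M)
  have hπ : ∀ {a b : G}, π a = π b → a⁻¹ * b ∈ M := fun h => QuotientGroup.eq.1 h
  have hMN : M ≤ N := Subgroup.le_normalizer
  let eIn : {j : J // (j : G) ∈ N} → M := fun j =>
    ⟨z * (j : J).1, by
      obtain ⟨m, hm, he⟩ := S.invol_mem j.1.2 j.2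
      rw [he, ← mul_assoc, S.zz, one_mul]; exact hm⟩
  have heIn : Function.Injective eIn := fun a b h =>
    Subtype.ext (Subtype.ext (mul_left_cancel (congrArg Subtype.val h :)))
  let F : {j : J // (j : G) ∈ N} ⊕ {j : J // (j : G) ∉ N} → G ⧸ M :=
    Sum.elim (fun j => π ((eIn j : G) * g)) (fun j => π j.1.1)
  have hF : Function.Injective F := by
    rintro (a | a) (b | b) hab
    · have h := hπ hab
      refine congrArg Sum.inl (heIn (Subtype.ext ?_))
      have h0 := S.free_left hg (M.mul_mem (M.inv_mem (eIn a).2) (eIn b).2)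
        (by rw [show g⁻¹ * (((eIn a : M) : G)⁻¹ * (eIn b : M)) * g =
              ((eIn a : G) * g)⁻¹ * ((eIn b : G) * g) by group]
            exact h)
      exact (inv_mul_eq_one.1 h0)
    · refine absurd ?_ hnone
      have h := hπ hab
      set m := (eIn a : G) with hm
      have hmM : m ∈ M := (eIn a).2
      have hb2 : orderOf (m⁻¹ * b.1.1 * m) = 2 := by
        rw [show m⁻¹ * b.1.1 * m = MulAut.conj m⁻¹ b.1.1 by simp [MulAut.conj_apply],
          MulEquiv.orderOf_eq, b.1.2]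
      have hc : (m⁻¹ * b.1.1)⁻¹ * g ∈ M := by
        have := M.inv_mem h
        rwa [show ((m * g)⁻¹ * b.1.1)⁻¹ = (m⁻¹ * b.1.1)⁻¹ * g by group] at this
      refine ⟨m⁻¹ * b.1.1 * m, m⁻¹ * ((m⁻¹ * b.1.1)⁻¹ * g), hb2, fun hin => b.2 ?_,
        M.mul_mem (M.inv_mem hmM) hc, by group⟩
      have := N.mul_mem (N.mul_mem (hMN hmM) hin) (hMN (M.inv_mem hmM))
      rwa [show m * (m⁻¹ * b.1.1 * m) * m⁻¹ = b.1.1 by group] at this
    · refine absurd ?_ hnone
      have h := hπ hab.symm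
      set m := (eIn b : G) with hm
      have hmM : m ∈ M := (eIn b).2
      have hb2 : orderOf (m⁻¹ * a.1.1 * m) = 2 := by
        rw [show m⁻¹ * a.1.1 * m = MulAut.conj m⁻¹ a.1.1 by simp [MulAut.conj_apply],
          MulEquiv.orderOf_eq, a.1.2]
      have hc : (m⁻¹ * a.1.1)⁻¹ * g ∈ M := by
        have := M.inv_mem h
        rwa [show ((m * g)⁻¹ * a.1.1)⁻¹ = (m⁻¹ * a.1.1)⁻¹ * g by group] at this
      refine ⟨m⁻¹ * a.1.1 * m, m⁻¹ * ((m⁻¹ * a.1.1)⁻¹ * g), hb2, fun hin => a.2 ?_,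
        M.mul_mem (M.inv_mem hmM) hc, by group⟩
      have := N.mul_mem (N.mul_mem (hMN hmM) hin) (hMN (M.inv_mem hmM))
      rwa [show m * (m⁻¹ * a.1.1 * m) * m⁻¹ = a.1.1 by group] at this
    · have h := hπ hab
      have h0 := S.coset_unique (mul_self_of_orderOf_two a.1.2) a.2 h
        (by rw [show a.1.1 * (a.1.1⁻¹ * b.1.1) = b.1.1 by group]
            exact mul_self_of_orderOf_two b.1.2)
      exact congrArg Sum.inr (Subtype.ext (Subtype.ext (inv_mul_eq_one.1 h0)))
  have hle := Nat.card_le_card_of_injective _ hF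
  rw [Nat.card_congr (Equiv.sumCompl fun j : J => (j : G) ∈ N), ← Subgroup.index_eq_card] at hle
  exact absurd hle (not_le.2 hJ)

/-! ### The subgroup `N(M) ∩ N(M)^t` -/

omit S in
/-- Membership in `N(M) ∩ N(M)^t`. -/
def InD (M : Subgroup G) (t d : G) : Prop :=
  d ∈ Subgroup.normalizer (M : Set G) ∧ t * d * t⁻¹ ∈ Subgroup.normalizer (M : Set G)

variable (hJ : M.index < Nat.card {g : G // orderOf g = 2})
variable {t : G} (ht : orderOf t = 2) (htN : t ∉ Subgroup.normalizer (M : Set G))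
include hJ ht htN

theorem exists_inverted {n : G} (hn : n ∈ Subgroup.normalizer (M : Set G)) :
    ∃ m ∈ M, t * (n * m) * t⁻¹ = (n * m)⁻¹ ∧ InD M t (n * m) := by
  have htt := mul_self_of_orderOf_two ht
  have hg : t * n ∉ Subgroup.normalizer (M : Set G) := fun h =>
    htN (by simpa using mul_mem h (inv_mem hn))
  obtain ⟨s, m, hs, -, hm, he⟩ := S.exists_invol hJ hg
  have h2 : t * (n * m⁻¹) = s := by rw [← mul_assoc, he]; group
  have h3 : t * (n * m⁻¹) * t⁻¹ = (n * m⁻¹)⁻¹ := by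
    refine eq_inv_of_mul_eq_one_left ?_
    rw [inv_eq_of_mul_eq_one_right htt]
    calc t * (n * m⁻¹) * t * (n * m⁻¹) = t * (n * m⁻¹) * (t * (n * m⁻¹)) := by group
      _ = 1 := by rw [h2, mul_self_of_orderOf_two hs]
  have hd : n * m⁻¹ ∈ Subgroup.normalizer (M : Set G) :=
    mul_mem hn (Subgroup.le_normalizer (M.inv_mem hm))
  exact ⟨m⁻¹, M.inv_mem hm, h3, hd, by rw [h3]; exact inv_mem hd⟩

/-- The involution of `N(M)` commuting with `t`. -/
theorem exists_commuting :
    ∃ s, orderOf s = 2 ∧ s ∈ Subgroup.normalizer (M : Set G) ∧ t * s = s * t := by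
  obtain ⟨m, hm, h, hd, -⟩ := S.exists_inverted hJ ht htN S.mem
  refine ⟨z * m, S.zm_invol hm, hd, ?_⟩
  rw [inv_of_orderOf_two (S.zm_invol hm)] at h
  conv_rhs => rw [← h]
  group

theorem inD_trivial {a : G} (ha : a ∈ M) (hd : InD M t a) : a = 1 := by
  obtain ⟨s, hs, hsN, hst⟩ := S.exists_commuting hJ ht htN
  have htt := mul_self_of_orderOf_two ht
  have hti := inv_of_orderOf_two ht
  set b := t * a * t⁻¹ with hb
  have hbN : b ∈ Subgroup.normalizer (M : Set G) := hd.2
  have hsa := S.invol_inverts hs hsN ha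
  have hbs : s * b * s = b⁻¹ := by
    rw [hb, hti]
    calc s * (t * a * t) * s = (s * t) * a * (t * s) := by group
      _ = (t * s) * a * (s * t) := by rw [hst]
      _ = t * (s * a * s) * t := by group
      _ = t * a⁻¹ * t := by rw [hsa]
      _ = (t * a * t)⁻¹ := by rw [mul_inv_rev, mul_inv_rev, hti, mul_assoc]
  obtain ⟨m0, hm0, hs0⟩ := S.invol_mem hs hsN
  obtain ⟨m, hm, u, huN, huz, hmu⟩ := S.exists_split hbN
  have hb2 : b * b ∈ M := by
    have h1 : m0 * b * m0⁻¹ = z * b⁻¹ * z := by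
      have hi : s = m0⁻¹ * z := by
        rw [← inv_of_orderOf_two hs, hs0, mul_inv_rev, S.zinv]
      have h2 : z * (z * m0 * b * (m0⁻¹ * z)) * z = z * b⁻¹ * z := by
        rw [← hs0, ← hi, hbs]
      calc m0 * b * m0⁻¹ = (z * z) * (m0 * b * m0⁻¹) * (z * z) := by rw [S.zz, one_mul, mul_one]
        _ = z * (z * m0 * b * (m0⁻¹ * z)) * z := by group
        _ = z * b⁻¹ * z := h2
    have h2 : z * b⁻¹ * z = u⁻¹ * m := by
      rw [hmu, mul_inv_rev]
      calc z * (u⁻¹ * m⁻¹) * z = (z * u⁻¹) * (z * z) * m⁻¹ * z := by rw [S.zz]; group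
        _ = (z * u⁻¹ * z) * (z * m⁻¹ * z) := by group
        _ = u⁻¹ * m := by
          rw [S.zm (M.inv_mem hm), inv_inv, mul_assoc z,
            show u⁻¹ * z = z * u⁻¹ from (inv_mul_eq_iff_eq_mul.2 (by rw [← mul_assoc, huz]; group)),
            ← mul_assoc, S.zz, one_mul]
    rw [h2, hmu] at h1
    -- `h1 : m0 (m u) m0⁻¹ = u⁻¹ m`
    have hA : u * m0⁻¹ * u⁻¹ ∈ M := S.conj_mem huN (M.inv_mem hm0)
    have hB : u * (m0 * m * (u * m0⁻¹ * u⁻¹)) * u⁻¹ ∈ M :=
      S.conj_mem huN (M.mul_mem (M.mul_mem hm0 hm) hA)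
    have h3 : u * (m0 * m * (u * m0⁻¹ * u⁻¹)) * u⁻¹ * (u * u) = m := by
      calc u * (m0 * m * (u * m0⁻¹ * u⁻¹)) * u⁻¹ * (u * u)
          = u * (m0 * (m * u) * m0⁻¹) := by group
        _ = m := by rw [h1]; group
    have h4 : u * u ∈ M := by
      rw [eq_inv_mul_iff_mul_eq.2 h3]
      exact M.mul_mem (M.inv_mem hB) hm
    rw [hmu, show m * u * (m * u) = m * (u * m * u⁻¹) * (u * u) by group]
    exact M.mul_mem (M.mul_mem hm (S.conj_mem huN hm)) h4
  have hbo : Odd (orderOf b) := by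
    rw [hb, show t * a * t⁻¹ = MulAut.conj t a by simp [MulAut.conj_apply], MulEquiv.orderOf_eq]
    exact S.odd_of_mem ha
  have hbM : b ∈ M := by
    obtain ⟨k, hk⟩ := hbo
    have : b = (b * b) ^ (k + 1) := by
      rw [← pow_two, ← pow_mul, show 2 * (k + 1) = orderOf b + 1 by omega, pow_succ,
        pow_orderOf_eq_one, one_mul]
    rw [this]
    exact M.pow_mem hb2 _
  by_contra h1
  exact htN (S.mem_N ha h1 hbM)

theorem inD_mul_inv {a b : G} (ha : InD M t a) (hb : InD M t b) : InD M t (a⁻¹ * b) := by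
  refine ⟨mul_mem (inv_mem ha.1) hb.1, ?_⟩
  rw [show t * (a⁻¹ * b) * t⁻¹ = (t * a * t⁻¹)⁻¹ * (t * b * t⁻¹) by group]
  exact mul_mem (inv_mem ha.2) hb.2

theorem inD_inverted {d : G} (hd : InD M t d) : t * d * t⁻¹ = d⁻¹ := by
  obtain ⟨m, hm, h, hdm⟩ := S.exists_inverted hJ ht htN hd.1
  have : m = 1 := by
    refine S.inD_trivial hJ ht htN hm ?_
    have := S.inD_mul_inv hJ ht htN hd hdm
    rwa [inv_mul_cancel_left] at this
  rwa [this, mul_one] at h

theorem inD_comm {a b : G} (ha : InD M t a) (hb : InD M t b) : a * b = b * a := by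
  have hai : InD M t a⁻¹ := by
    refine ⟨inv_mem ha.1, ?_⟩
    rw [show t * a⁻¹ * t⁻¹ = (t * a * t⁻¹)⁻¹ by group]; exact inv_mem ha.2
  have hab : InD M t (a⁻¹ * b⁻¹) := by
    have hbi : InD M t b⁻¹ := by
      refine ⟨inv_mem hb.1, ?_⟩
      rw [show t * b⁻¹ * t⁻¹ = (t * b * t⁻¹)⁻¹ by group]; exact inv_mem hb.2
    exact S.inD_mul_inv hJ ht htN ha hbi
  have h := S.inD_inverted hJ ht htN hab
  rw [show t * (a⁻¹ * b⁻¹) * t⁻¹ = (t * a⁻¹ * t⁻¹) * (t * b * t⁻¹)⁻¹ by group,
    S.inD_inverted hJ ht htN hai, S.inD_inverted hJ ht htN hb, inv_inv, inv_inv, mul_inv_rev,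
    inv_inv, inv_inv] at h
  exact h

/-- `N(M) ∩ N(M)^t` is the centraliser in `N(M)` of its involution. -/
theorem inD_iff_commute {s : G} (hs : orderOf s = 2) (hsN : s ∈ Subgroup.normalizer (M : Set G))
    (hst : t * s = s * t) {d : G} :
    InD M t d ↔ d ∈ Subgroup.normalizer (M : Set G) ∧ d * s = s * d := by
  have hsD : InD M t s := ⟨hsN, by rw [hst, mul_inv_cancel_right]; exact hsN⟩
  refine ⟨fun hd => ⟨hd.1, S.inD_comm hJ ht htN hd hsD⟩, fun ⟨hdN, hds⟩ => ?_⟩
  obtain ⟨m, hm, -, hdm⟩ := S.exists_inverted hJ ht htN hdN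
  have hc := S.inD_comm hJ ht htN hdm hsD
  have hmc : m * s = s * m := by
    refine mul_left_cancel (a := d) ?_
    calc d * (m * s) = (d * m) * s := by group
      _ = s * (d * m) := hc
      _ = (s * d) * m := by group
      _ = (d * s) * m := by rw [hds]
      _ = d * (s * m) := by group
  rw [S.fpf_invol hs hm hmc.symm, mul_one] at hdm
  exact hdm

/-- Only one involution of `N(M)` commutes with `t`. -/
theorem commuting_unique {s s' : G} (hs : orderOf s = 2)
    (hsN : s ∈ Subgroup.normalizer (M : Set G)) (hst : t * s = s * t) (hs' : orderOf s' = 2)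
    (hsN' : s' ∈ Subgroup.normalizer (M : Set G)) (hst' : t * s' = s' * t) : s = s' := by
  obtain ⟨m, hm, rfl⟩ := S.invol_mem hs hsN
  obtain ⟨m', hm', rfl⟩ := S.invol_mem hs' hsN'
  have hd : InD M t (z * m) := ⟨hsN, by rw [hst, mul_inv_cancel_right]; exact hsN⟩
  have hd' : InD M t (z * m') := ⟨hsN', by rw [hst', mul_inv_cancel_right]; exact hsN'⟩
  have h := S.inD_mul_inv hJ ht htN hd hd'
  rw [show (z * m)⁻¹ * (z * m') = m⁻¹ * m' by group] at h
  rw [inv_mul_eq_one.1 (S.inD_trivial hJ ht htN (M.mul_mem (M.inv_mem hm) hm') h)]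

end Setup

end CfsgLib.BenderTI
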