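import Cfsg.Agent.LocalEvenBasic.BenderTI.Action
import Cfsg.Agent.Classification.SharplyThreeProjective.Basic
import Cfsg.Agent.Classification.PSLTwoGeneral.ZassenhausAbelian

/-!
# The doubly transitive case

If `z` fixes only one point besides `N(M)` then `G` is `PGL(2, q)` or `PSL(2, q)`.
-/

set_option autoImplicit false
set_option linter.unusedSectionVars false

namespace CfsgLib.BenderTI

open MulAction

variable {G : Type*} [Group G] [Finite G]

namespace Setup

variable {M : Subgroup G} {z : G} (S : Setup M z)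
variable (hJ : M.index < Nat.card {g : G // orderOf g = 2})
variable {b : Pts M} (hb : b ≠ base M) (hzb : z • b = b)
variable (huniq : ∀ x : Pts M, x ≠ base M → z • x = x → x = b)
include S hJ hb hzb huniq

theorem exists_translate {y : Pts M} (hy : y ≠ base M) : ∃ m ∈ M, m • b = y := by
  obtain ⟨k, hk, x, hx, hzx, he⟩ := S.cover hJ hy
  exact ⟨k, hk, by rw [← huniq x hx hzx]; exact he⟩

theorem mem_D {d : G} (h0 : d • base M = base M) (hd : d • b = b) :
    d ∈ Subgroup.normalizer (M : Set G) ∧ d * z = z * d := by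
  have h : d ∈ stabilizer G (base M) ⊓ stabilizer G b := ⟨h0, hd⟩
  rw [S.stab_pair hJ hb hzb, Subgroup.mem_inf, Subgroup.mem_centralizer_singleton_iff] at h
  exact h

theorem commute_of_fix {d m : G} (h0 : d • base M = base M) (hd : d • b = b) (hm : m ∈ M)
    (hdm : d • (m • b) = m • b) : d * m = m * d := by
  have h1 := S.mem_D hJ hb hzb huniq h0 hd
  have h2 := S.mem_D hJ hb hzb huniq (d := m⁻¹ * d * m)
    (by rw [mul_smul, mul_smul, S.M_fix hJ hm, h0, S.M_fix hJ (M.inv_mem hm)])
    (by rw [mul_smul, mul_smul, hdm, inv_smul_smul])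
  have hc : d⁻¹ * (m⁻¹ * d * m) ∈ Subgroup.centralizer ({z} : Set G) :=
    mul_mem (inv_mem (Subgroup.mem_centralizer_singleton_iff.2 h1.2))
      (Subgroup.mem_centralizer_singleton_iff.2 h2.2)
  have hM : d⁻¹ * (m⁻¹ * d * m) ∈ M := by
    rw [show d⁻¹ * (m⁻¹ * d * m) = (d⁻¹ * m⁻¹ * d) * m by group]
    exact M.mul_mem (S.conj_mem' h1.1 (M.inv_mem hm)) hm
  have h3 := S.fpf_invol S.two hM (Subgroup.mem_centralizer_singleton_iff.1 hc).symm
  calc d * m = d * m * (d⁻¹ * (m⁻¹ * d * m))⁻¹ := by rw [h3, inv_one, mul_one]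
    _ = m * d⁻¹⁻¹ := by group
    _ = m * d := by rw [inv_inv]

/-- The two point stabiliser is semiregular on the other points. -/
theorem semireg {d : G} {y : Pts M} (h0 : d • base M = base M) (hd : d • b = b)
    (hy0 : y ≠ base M) (hyb : y ≠ b) (hdy : d • y = y) : d = 1 := by
  obtain ⟨t, ht, htN, htb, htb', htz⟩ := S.exists_rep_fixed hJ hb hzb
  have htt := mul_self_of_orderOf_two ht
  have hinD : ∀ {e : G}, e • base M = base M → e • b = b → InD M t e := fun {e} he0 heb =>
    S.inD_of_fix hJ ht he0 (by rw [htb]; exact heb)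
  have hinv : t * d * t = d⁻¹ := by
    have := S.inD_inverted hJ ht htN (hinD h0 hd)
    rwa [inv_of_orderOf_two ht] at this
  have htd : t * d = d⁻¹ * t := by rw [← hinv, mul_assoc _ t, htt, mul_one]
  have htd' : t * d⁻¹ = d * t := by
    calc t * d⁻¹ = t * (t * d * t) := by rw [hinv]
      _ = (t * t) * d * t := by group
      _ = d * t := by rw [htt, one_mul]
  have hfixed : ∀ w : Pts M, w ≠ base M → d • w = w → ∃ m ∈ M, m • b = w ∧ d * m = m * d := by
    intro w hw hdw
    obtain ⟨m, hm, rfl⟩ := S.exists_translate hJ hb hzb huniq hw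
    exact ⟨m, hm, rfl, S.commute_of_fix hJ hb hzb huniq h0 hd hm hdw⟩
  obtain ⟨m, hm, hmy, hmd⟩ := hfixed y hy0 hdy
  have hm1 : m ≠ 1 := fun e => hyb (by rw [← hmy, e, one_smul])
  have hodd : Odd (orderOf d) := S.odd_of_commute hm hm1 hmd
  refine eq_one_of_mul_self_of_odd ?_ hodd
  -- an element commuting with `d` exchanging the two points
  have hA : d * (t * m * t) = (t * m * t) * d := by
    calc d * (t * m * t) = (d * t) * m * t := by group
      _ = (t * d⁻¹) * m * t := by rw [htd']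
      _ = t * (d⁻¹ * m) * t := by group
      _ = t * (m * d⁻¹) * t := by
          rw [show d⁻¹ * m = m * d⁻¹ from
            inv_mul_eq_iff_eq_mul.2 (by rw [← mul_assoc, hmd]; group)]
      _ = t * m * (d⁻¹ * t) := by group
      _ = t * m * (t * d) := by rw [← htd]
      _ = (t * m * t) * d := by group
  have hty0 : t • y ≠ base M := fun e => hyb (smul_left_cancel t (e.trans htb'.symm))
  have htyb : t • y ≠ b := fun e => hy0 (smul_left_cancel t (e.trans htb.symm))
  have hAo : (t * m * t) • base M = t • y := by rw [mul_smul, mul_smul, htb, hmy]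
  have hAb : (t * m * t) • b = b := by rw [mul_smul, mul_smul, htb', S.M_fix hJ hm, htb]
  obtain ⟨m1, hm1M, hm1y, hm1d⟩ := hfixed (t • y) hty0
    (by rw [← hAo, ← mul_smul, hA, mul_smul, h0])
  have hm11 : m1 ≠ 1 := fun e => htyb (by rw [← hm1y, e, one_smul])
  have hm1d' : d * m1⁻¹ = m1⁻¹ * d :=
    eq_inv_mul_iff_mul_eq.2 (by rw [← mul_assoc, ← hm1d]; group)
  set v := m1⁻¹ • b with hv
  have hv0 : v ≠ base M := fun e => hb (by
    rw [hv, inv_smul_eq_iff, S.M_fix hJ hm1M] at e; exact e)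
  have hvb : v ≠ b := fun e => hm11 (inv_eq_one.1 (S.free hJ hb (M.inv_mem hm1M) e))
  have hdv : d • v = v := by rw [hv, ← mul_smul, hm1d', mul_smul, hd]
  obtain ⟨m2, hm2M, hm2w, hm2d⟩ := hfixed (t • v)
    (fun e => hvb (smul_left_cancel t (e.trans htb'.symm)))
    (by rw [← mul_smul, ← htd', mul_smul, inv_smul_eq_iff.2 hdv.symm])
  have hm2d' : d⁻¹ * m2⁻¹ = m2⁻¹ * d⁻¹ := by rw [← mul_inv_rev, ← mul_inv_rev, hm2d]
  have hA2 : d * (t * m2⁻¹ * t) = (t * m2⁻¹ * t) * d := by
    calc d * (t * m2⁻¹ * t) = (d * t) * m2⁻¹ * t := by group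
      _ = (t * d⁻¹) * m2⁻¹ * t := by rw [htd']
      _ = t * (d⁻¹ * m2⁻¹) * t := by group
      _ = t * (m2⁻¹ * d⁻¹) * t := by rw [hm2d']
      _ = t * m2⁻¹ * (d⁻¹ * t) := by group
      _ = t * m2⁻¹ * (t * d) := by rw [← htd]
      _ = (t * m2⁻¹ * t) * d := by group
  set k := (t * m2⁻¹ * t) * (m1⁻¹ * (t * m * t)) with hk
  have hkd : d * k = k * d := by
    calc d * k = (d * (t * m2⁻¹ * t)) * (m1⁻¹ * (t * m * t)) := by rw [hk]; group
      _ = (t * m2⁻¹ * t) * ((d * m1⁻¹) * (t * m * t)) := by rw [hA2]; group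
      _ = (t * m2⁻¹ * t) * (m1⁻¹ * (d * (t * m * t))) := by rw [hm1d']; group
      _ = k * d := by rw [hA, hk]; group
  have hko : k • base M = b := by
    rw [hk, mul_smul, mul_smul m1⁻¹, hAo, inv_smul_eq_iff.2 hm1y.symm, mul_smul, mul_smul,
      htb', S.M_fix hJ (M.inv_mem hm2M), htb]
  have hkb : k • b = base M := by
    rw [hk, mul_smul, mul_smul m1⁻¹, hAb, ← hv, mul_smul, mul_smul,
      inv_smul_eq_iff.2 hm2w.symm, htb']
  have he := hinD (e := t * k) (by rw [mul_smul, hko, htb']) (by rw [mul_smul, hkb, htb])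
  have hed := S.inD_comm hJ ht htN he (hinD h0 hd)
  have htd2 : t * d = d * t := by
    refine mul_right_cancel (b := k) ?_
    calc t * d * k = t * (d * k) := by group
      _ = (t * k) * d := by rw [hkd]; group
      _ = d * (t * k) := hed
      _ = d * t * k := by group
  have h1 : d⁻¹ = d := mul_right_cancel (htd.symm.trans htd2)
  nth_rewrite 1 [← h1]
  rw [inv_mul_cancel]

theorem card_points_eq : Nat.card (Pts M) = Nat.card M + 1 := by
  have : Nat.card {x : Pts M // x ≠ base M ∧ z • x = x} = 1 := by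
    rw [Nat.card_eq_one_iff_unique]
    exact ⟨⟨fun x y => Subtype.ext
      ((huniq x.1 x.2.1 x.2.2).trans (huniq y.1 y.2.1 y.2.2).symm)⟩, ⟨⟨b, hb, hzb⟩⟩⟩
  rw [S.card_points hJ, this, mul_one]

theorem two_pretransitive : IsMultiplyPretransitive G (Pts M) 2 := by
  rw [is_two_pretransitive_iff]
  have key : ∀ {x y : Pts M}, x ≠ y → ∃ g : G, g • x = base M ∧ g • y = b := by
    intro x y hxy
    obtain ⟨g, hg⟩ := exists_smul_eq G x (base M)
    have hgy : g • y ≠ base M := fun e => hxy (smul_left_cancel g (hg.trans e.symm))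
    obtain ⟨m, hm, hmy⟩ := S.exists_translate hJ hb hzb huniq hgy
    exact ⟨m⁻¹ * g, by rw [mul_smul, hg, S.M_fix hJ (M.inv_mem hm)],
      by rw [mul_smul, ← hmy, inv_smul_smul]⟩
  intro a b' c d hab hcd
  obtain ⟨g, hga, hgb⟩ := key hab
  obtain ⟨h, hhc, hhd⟩ := key hcd
  exact ⟨h⁻¹ * g, by rw [mul_smul, hga, ← hhc, inv_smul_smul],
    by rw [mul_smul, hgb, ← hhd, inv_smul_smul]⟩

theorem three_fix {g : G} {u v w : Pts M} (huv : u ≠ v) (huw : u ≠ w) (hvw : v ≠ w)
    (hu : g • u = u) (hv : g • v = v) (hw : g • w = w) : g = 1 := by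
  obtain ⟨k, hku, hkv⟩ :=
    is_two_pretransitive_iff.1 (S.two_pretransitive hJ hb hzb huniq) huv hb.symm
  have h := S.semireg hJ hb hzb huniq (d := k * g * k⁻¹) (y := k • w)
    (by rw [mul_smul, mul_smul, ← hku, inv_smul_smul, hu])
    (by rw [mul_smul, mul_smul, ← hkv, inv_smul_smul, hv])
    (fun e => huw (smul_left_cancel k (hku.trans e.symm)))
    (fun e => hvw (smul_left_cancel k (hkv.trans e.symm)))
    (by rw [mul_smul, mul_smul, inv_smul_smul, hw])
  exact conj_eq_one_iff.1 h

theorem card_ge_four : 4 ≤ Nat.card (Pts M) := by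
  rw [S.card_points_eq hJ hb hzb huniq]
  haveI : Nontrivial M := by
    obtain ⟨m, hm, hm1⟩ := S.exists_ne
    exact ⟨⟨m, hm⟩, 1, fun e => hm1 (congrArg Subtype.val e)⟩
  have h1 : 1 < Nat.card M := Finite.one_lt_card
  obtain ⟨j, hj⟩ := S.odd_card
  omega

theorem faithful : FaithfulSMul G (Pts M) := by
  classical
  haveI := Fintype.ofFinite (Pts M)
  refine ⟨fun {g g'} h => ?_⟩
  have h4 := S.card_ge_four hJ hb hzb huniq
  rw [Nat.card_eq_fintype_card] at h4
  obtain ⟨u, v, w, huv, huw, hvw⟩ := Fintype.two_lt_card_iff.1 (show 2 < Fintype.card (Pts M) by omega)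
  have := S.three_fix hJ hb hzb huniq (g := g'⁻¹ * g) huv huw hvw
    (by rw [mul_smul, h, inv_smul_smul]) (by rw [mul_smul, h, inv_smul_smul])
    (by rw [mul_smul, h, inv_smul_smul])
  exact (inv_mul_eq_one.1 this).symm

theorem even_card_D : Even (Nat.card ↥(stabilizer G (base M) ⊓ stabilizer G b)) := by
  have h := Subgroup.orderOf_dvd_natCard (stabilizer G (base M) ⊓ stabilizer G b)
    (x := z) ⟨S.fix_z_base hJ, hzb⟩
  rw [S.two] at h
  exact even_iff_two_dvd.2 h

/-- The two point stabiliser maps injectively to the remaining points. -/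
theorem D_injective {c : Pts M} (hc0 : c ≠ base M) (hcb : c ≠ b) :
    Function.Injective (fun d : ↥(stabilizer G (base M) ⊓ stabilizer G b) =>
      (⟨(d : G) • c,
        fun e => hc0 (smul_left_cancel (d : G) (e.trans (Subgroup.mem_inf.1 d.2).1.symm)),
        fun e => hcb (smul_left_cancel (d : G) (e.trans (Subgroup.mem_inf.1 d.2).2.symm))⟩ :
          {y : Pts M // y ≠ base M ∧ y ≠ b})) := by
  intro d d' h
  have h' : (d : G) • c = (d' : G) • c := congrArg Subtype.val h
  have := (stabilizer G (base M) ⊓ stabilizer G b).mul_mem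
    ((stabilizer G (base M) ⊓ stabilizer G b).inv_mem d'.2) d.2
  obtain ⟨h1, h2⟩ := Subgroup.mem_inf.1 this
  exact Subtype.ext (inv_mul_eq_one.1 (S.semireg hJ hb hzb huniq h1 h2 hc0 hcb
    (by rw [mul_smul, h', inv_smul_smul]))).symm

theorem card_others : Nat.card {y : Pts M // y ≠ base M ∧ y ≠ b} = Nat.card M - 1 := by
  classical
  haveI := Fintype.ofFinite (Pts M)
  rw [Nat.card_eq_fintype_card, Fintype.card_subtype]
  have : (Finset.univ.filter fun c : Pts M => c ≠ base M ∧ c ≠ b) =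
      ({base M, b} : Finset (Pts M))ᶜ := by ext c; simp
  rw [this, Finset.card_compl, Finset.card_pair hb.symm, ← Nat.card_eq_fintype_card,
    S.card_points_eq hJ hb hzb huniq]
  omega

theorem exists_third : ∃ c : Pts M, c ≠ base M ∧ c ≠ b := by
  have h := S.card_others hJ hb hzb huniq
  have h4 := S.card_ge_four hJ hb hzb huniq
  rw [S.card_points_eq hJ hb hzb huniq] at h4
  haveI : Nonempty {y : Pts M // y ≠ base M ∧ y ≠ b} :=
    (Nat.card_pos_iff.1 (by omega)).1
  obtain ⟨c, hc⟩ := Classical.arbitrary {y : Pts M // y ≠ base M ∧ y ≠ b}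
  exact ⟨c, hc⟩

theorem card_D_le : Nat.card ↥(stabilizer G (base M) ⊓ stabilizer G b) ≤ Nat.card M - 1 := by
  obtain ⟨c, hc⟩ := S.exists_third hJ hb hzb huniq
  exact le_of_le_of_eq (Nat.card_le_card_of_injective _ (S.D_injective hJ hb hzb huniq hc.1 hc.2))
    (S.card_others hJ hb hzb huniq)

/-- No regular normal subgroup, unless there are only four points. -/
theorem exists_stab_ne_bot (h3 : 3 < Nat.card M) (R : Subgroup G) (hR : R.Normal)
    (htr : IsPretransitive R (Pts M)) : ∃ a : Pts M, stabilizer R a ≠ ⊥ := by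
  classical
  by_contra hcon
  push Not at hcon
  have hinj : Function.Injective (fun r : R => (r : G) • base M) := fun r r' h => by
    have : r'⁻¹ * r ∈ stabilizer R (base M) := by
      rw [mem_stabilizer_iff, mul_smul]
      show r'⁻¹ • ((r : G) • base M) = base M
      rw [show (r : G) • base M = (r' : G) • base M from h]
      exact inv_smul_smul r' (base M)
    rw [hcon, Subgroup.mem_bot] at this
    exact (inv_mul_eq_one.1 this).symm
  have hsurj : Function.Surjective (fun r : R => (r : G) • base M) := fun y =>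
    exists_smul_eq R (base M) y
  have hcard : Nat.card R = Nat.card M + 1 := by
    rw [Nat.card_eq_of_bijective _ ⟨hinj, hsurj⟩, S.card_points_eq hJ hb hzb huniq]
  have hequiv : ∀ (k : G), k • base M = base M → ∀ r : R,
      (k * r * k⁻¹) • base M = k • ((r : G) • base M) := fun k hk r => by
    rw [mul_smul, mul_smul, inv_smul_eq_iff.2 hk.symm]
  obtain ⟨i, hi⟩ := exists_prime_orderOf_dvd_card' (G := R) 2 (hp := ⟨Nat.prime_two⟩)
    (by rw [hcard]; exact even_iff_two_dvd.1 S.odd_card.add_one)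
  have hi1 : i ≠ 1 := fun e => by rw [e, orderOf_one] at hi; omega
  have hib : (i : G) • base M ≠ base M := fun e => hi1 (hinj (by
    show (i : G) • base M = ((1 : R) : G) • base M
    rw [e, OneMemClass.coe_one, one_smul]))
  have hsq : ∀ r : R, r * r = 1 := by
    intro r
    by_cases hr : r = 1
    · rw [hr, mul_one]
    have hrb : (r : G) • base M ≠ base M := fun e => hr (hinj (by
      show (r : G) • base M = ((1 : R) : G) • base M
      rw [e, OneMemClass.coe_one, one_smul]))
    obtain ⟨m, hm, hmi⟩ := S.exists_translate hJ hb hzb huniq hib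
    obtain ⟨m', hm', hmr⟩ := S.exists_translate hJ hb hzb huniq hrb
    set k := m' * m⁻¹ with hk
    have he : (⟨k * i * k⁻¹, hR.conj_mem _ i.2 k⟩ : R) = r := hinj (by
      show (k * i * k⁻¹) • base M = (r : G) • base M
      rw [hequiv k (S.M_fix hJ (M.mul_mem hm' (M.inv_mem hm))) i, ← hmi, ← hmr, hk, mul_smul,
        inv_smul_smul])
    rw [← he]
    refine Subtype.ext ?_
    show k * i * k⁻¹ * (k * i * k⁻¹) = 1
    have h2 : (i : G) * i = 1 := by
      have := congrArg Subtype.val (mul_self_of_orderOf_two hi)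
      simpa using this
    rw [show k * i * k⁻¹ * (k * i * k⁻¹) = k * ((i : G) * i) * k⁻¹ by group, h2]
    group
  have hinv : ∀ r : R, r⁻¹ = r := fun r => inv_eq_of_mul_eq_one_right (hsq r)
  have hcomm : ∀ r r' : R, r * r' = r' * r := fun r r' => by
    conv_lhs => rw [← hinv (r * r'), mul_inv_rev, hinv, hinv]
  letI : CommGroup R := { (inferInstance : Group R) with mul_comm := hcomm }
  let σ : R →* R := MonoidHom.mk' (fun r => ⟨z * r * z⁻¹, hR.conj_mem _ r.2 z⟩)
    fun r r' => Subtype.ext (by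
      show z * ((r : G) * r') * z⁻¹ = z * r * z⁻¹ * (z * r' * z⁻¹)
      group)
  have hσσ : ∀ r, σ (σ r) = r := fun r => Subtype.ext (by
    show z * (z * r * z⁻¹) * z⁻¹ = r
    rw [show z * (z * (r : G) * z⁻¹) * z⁻¹ = (z * z) * r * (z * z)⁻¹ by group, S.zz]
    group)
  let ψ : R →* R := MonoidHom.mk' (fun r => r * σ r) fun r r' => by
    rw [map_mul]; exact mul_mul_mul_comm _ _ _ _
  let C := {r : R // σ r = r}
  let cb : C → Bool := fun r => decide ((r.1 : G) • base M = base M)
  have hC : Nat.card C ≤ 2 := by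
    have hcb : Function.Injective cb := by
      intro r r' h
      apply Subtype.ext
      apply hinj
      show (r.1 : G) • base M = (r'.1 : G) • base M
      have hfix : ∀ q : C, (q.1 : G) • base M = base M ∨ (q.1 : G) • base M = b := by
        intro q
        by_cases hq : (q.1 : G) • base M = base M
        · exact Or.inl hq
        · refine Or.inr (huniq _ hq ?_)
          rw [← hequiv z (S.fix_z_base hJ) q.1]
          exact congrArg (fun w : R => (w : G) • base M) q.2
      have hd : decide ((r.1 : G) • base M = base M) = decide ((r'.1 : G) • base M = base M) := h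
      rcases hfix r with h1 | h1 <;> rcases hfix r' with h2 | h2 <;>
        simp only [h1, h2, decide_eq_decide, iff_true, true_iff] at hd ⊢
      · exact absurd hd hb
      · exact absurd hd hb
    simpa using Nat.card_le_card_of_injective cb hcb
  have hker : Nat.card ψ.ker ≤ Nat.card C :=
    Nat.card_le_card_of_injective
      (fun r => (⟨r.1, by
        have h : r.1 * σ r.1 = 1 := r.2
        rw [← inv_eq_of_mul_eq_one_right h, hinv]⟩ : C))
      (fun r r' h => Subtype.ext (congrArg Subtype.val h :))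
  have hrange : Nat.card ψ.range ≤ Nat.card C :=
    Nat.card_le_card_of_injective
      (fun r => (⟨r.1, by
        obtain ⟨x, hx⟩ := r.2
        rw [← hx]
        show σ (x * σ x) = x * σ x
        rw [map_mul, hσσ, hcomm]⟩ : C))
      (fun r r' h => Subtype.ext (congrArg Subtype.val h :))
  have h := ψ.ker.index_mul_card
  rw [Subgroup.index_ker, hcard] at h
  have h4 : Nat.card ψ.range * Nat.card ψ.ker ≤ 2 * 2 :=
    Nat.mul_le_mul (hrange.trans hC) (hker.trans hC)
  omega

theorem isZassenhaus (h3 : 3 < Nat.card M) : Cfsg.IsZassenhausGroup G (Pts M) := by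
  refine ⟨S.faithful hJ hb hzb huniq, S.two_pretransitive hJ hb hzb huniq, ?_, ?_,
    fun N hN htr => S.exists_stab_ne_bot hJ hb hzb huniq h3 N hN htr⟩
  · intro g a b' c hab hbc hac ha hb' hc
    exact S.three_fix hJ hb hzb huniq hab hac hbc ha hb' hc
  · exact ⟨z, ne_one_of_orderOf_two S.two, base M, b, hb.symm, S.fix_z_base hJ, hzb⟩

/-- The sharply triply transitive case. -/
theorem pgl_case (hD : Nat.card ↥(stabilizer G (base M) ⊓ stabilizer G b) = Nat.card M - 1) :
    ∃ (F : Type) (_ : Field F) (_ : Fintype F), Fintype.card F + 1 = Nat.card (Pts M) ∧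
      Nonempty (G ≃* Matrix.ProjGenLinGroup (Fin 2) F) := by
  classical
  haveI := S.faithful hJ hb hzb huniq
  obtain ⟨c, hc0, hcb⟩ := S.exists_third hJ hb hzb huniq
  have hbij := (S.D_injective hJ hb hzb huniq hc0 hcb).bijective_of_nat_card_le
    (le_of_eq (by rw [hD, S.card_others hJ hb hzb huniq]))
  have key : ∀ {u v w : Pts M}, u ≠ v → u ≠ w → v ≠ w →
      ∃ g : G, g • u = base M ∧ g • v = b ∧ g • w = c := by
    intro u v w huv huw hvw
    obtain ⟨g, hgu, hgv⟩ :=
      is_two_pretransitive_iff.1 (S.two_pretransitive hJ hb hzb huniq) huv hb.symm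
    obtain ⟨d, hd⟩ := hbij.2 ⟨g • w, fun e => huw (smul_left_cancel g (hgu.trans e.symm)),
      fun e => hvw (smul_left_cancel g (hgv.trans e.symm))⟩
    have hd' : (d : G) • c = g • w := congrArg Subtype.val hd
    obtain ⟨hd0, hdb⟩ := Subgroup.mem_inf.1 d.2
    exact ⟨(d : G)⁻¹ * g, by rw [mul_smul, hgu, inv_smul_eq_iff, hd0],
      by rw [mul_smul, hgv, inv_smul_eq_iff, hdb], by rw [mul_smul, ← hd', inv_smul_smul]⟩
  have h3 : IsMultiplyPretransitive G (Pts M) 3 := by
    refine ⟨fun x y => ?_⟩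
    obtain ⟨g, g0, g1, g2⟩ := key (x.injective.ne (by decide : (0 : Fin 3) ≠ 1))
      (x.injective.ne (by decide : (0 : Fin 3) ≠ 2)) (x.injective.ne (by decide : (1 : Fin 3) ≠ 2))
    obtain ⟨k, k0, k1, k2⟩ := key (y.injective.ne (by decide : (0 : Fin 3) ≠ 1))
      (y.injective.ne (by decide : (0 : Fin 3) ≠ 2)) (y.injective.ne (by decide : (1 : Fin 3) ≠ 2))
    refine ⟨k⁻¹ * g, Function.Embedding.ext fun i => ?_⟩
    show (k⁻¹ * g) • x i = y i
    rw [mul_smul, inv_smul_eq_iff]
    match i with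
    | 0 => rw [g0, k0]
    | 1 => rw [g1, k1]
    | 2 => rw [g2, k2]
  obtain ⟨t, ht, htN, htb, htb', htz⟩ := S.exists_rep_fixed hJ hb hzb
  obtain ⟨w, hwa, hwb, hwc⟩ := CfsgLib.Perm.SharplyThree.exists_triple h3 hb.symm hc0.symm hcb.symm
    hb hcb.symm hc0.symm
  refine CfsgLib.Classification.SharplyThreeProjective.of_commutative h3
    (fun g u v w' huv huw hvw hu hv hw => S.three_fix hJ hb hzb huniq huv huw hvw hu hv hw)
    hb.symm hc0.symm hcb.symm hwa hwb hwc (fun x hx y hy => ?_) fun d hd => ?_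
  · exact S.inD_comm hJ ht htN (S.inD_of_fix hJ ht hx.1 (by rw [htb]; exact hx.2))
      (S.inD_of_fix hJ ht hy.1 (by rw [htb]; exact hy.2))
  · have hww : w * w = 1 := S.three_fix hJ hb hzb huniq hb.symm hc0.symm hcb.symm
      (by rw [mul_smul, hwa, hwb]) (by rw [mul_smul, hwb, hwa]) (by rw [mul_smul, hwc, hwc])
    have he : InD M t (t * w) := S.inD_of_fix hJ ht (by rw [mul_smul, hwa, htb'])
      (by rw [htb, mul_smul, hwb, htb])
    have hdd : InD M t (d * d) := S.inD_of_fix hJ ht
      (mul_smul d d (base M) ▸ by rw [hd.1, hd.1])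
      (by rw [htb, mul_smul, hd.2, hd.2])
    have hc := S.inD_comm hJ ht htN he hdd
    have hi := S.inD_inverted hJ ht htN hdd
    have hwinv : w⁻¹ = w := inv_eq_of_mul_eq_one_right hww
    calc w * (d * d) * w = t⁻¹ * ((t * w) * (d * d)) * w⁻¹ := by rw [hwinv]; group
      _ = t⁻¹ * (d * d) * t := by rw [hc]; group
      _ = (d * d)⁻¹ := by rw [inv_of_orderOf_two ht]; rw [inv_of_orderOf_two ht] at hi; exact hi

theorem elementary {p : ℕ} [Fact p.Prime] (hp : p ∣ Nat.card M)
    (h2 : Nat.card M ≤ 2 * Nat.card ↥(stabilizer G (base M) ⊓ stabilizer G b) + 1) :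
    IsMulCommutative M ∧ ∀ m ∈ M, m ^ p = 1 := by
  refine ⟨⟨⟨fun a b => Subtype.ext (S.comm a.2 b.2)⟩⟩, ?_⟩
  let P : Subgroup G :=
    { carrier := {m | m ∈ M ∧ m ^ p = 1}
      one_mem' := ⟨M.one_mem, one_pow p⟩
      mul_mem' := fun {a b} ha hb => ⟨M.mul_mem ha.1 hb.1, by
        rw [(show Commute a b from S.comm ha.1 hb.1).mul_pow, ha.2, hb.2, one_mul]⟩
      inv_mem' := fun {a} ha => ⟨M.inv_mem ha.1, by rw [inv_pow, ha.2, inv_one]⟩ }
  obtain ⟨⟨m0, hm0⟩, hord⟩ := exists_prime_orderOf_dvd_card' (G := M) p hp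
  rw [Subgroup.orderOf_mk] at hord
  have hm01 : m0 ≠ 1 := fun e => by
    rw [e, orderOf_one] at hord; exact (Fact.out (p := p.Prime)).one_lt.ne hord
  let D := stabilizer G (base M) ⊓ stabilizer G b
  let F : D → {x : P // x ≠ 1} := fun d =>
    ⟨⟨(d : G) * m0 * (d : G)⁻¹, S.conj_mem (S.mem_D hJ hb hzb huniq d.2.1 d.2.2).1 hm0,
      by rw [conj_pow, ← hord, pow_orderOf_eq_one]; group⟩,
      fun e => hm01 (conj_eq_one_iff.1 (congrArg Subtype.val e :))⟩
  have hF : Function.Injective F := by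
    intro d d' h
    have h' : (d : G) * m0 * (d : G)⁻¹ = (d' : G) * m0 * (d' : G)⁻¹ :=
      congrArg (fun x : {x : P // x ≠ 1} => ((x.1 : P) : G)) h
    have hd := D.mul_mem (D.inv_mem d'.2) d.2
    set e := (d' : G)⁻¹ * (d : G) with he
    have hc : e * m0 = m0 * e := by
      calc e * m0 = (d' : G)⁻¹ * ((d : G) * m0 * (d : G)⁻¹) * d := by rw [he]; group
        _ = (d' : G)⁻¹ * ((d' : G) * m0 * (d' : G)⁻¹) * d := by rw [h']
        _ = m0 * e := by rw [he]; group
    refine Subtype.ext (inv_mul_eq_one.1 (S.semireg hJ hb hzb huniq (y := m0 • b) hd.1 hd.2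
      (fun h0 => hb (smul_left_cancel m0 (h0.trans (S.M_fix hJ hm0).symm)))
      (fun h0 => hm01 (S.free hJ hb hm0 h0)) ?_)).symm
    rw [← mul_smul, hc, mul_smul, show e • b = b from hd.2]
  have hle := Nat.card_le_card_of_injective F hF
  have hP : Nat.card {x : P // x ≠ 1} + 1 = Nat.card P := by
    classical
    haveI := Fintype.ofFinite P
    rw [Nat.card_eq_fintype_card, Nat.card_eq_fintype_card, Fintype.card_subtype_compl,
      Fintype.card_subtype_eq]
    have := Fintype.card_pos (α := P)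
    omega
  have hPM : P ≤ M := fun _ h => h.1
  have hdvd := Subgroup.card_dvd_of_le hPM
  have hPe : P = M := by
    refine Subgroup.eq_of_le_of_card_ge hPM ?_
    obtain ⟨j, hj⟩ := hdvd
    rcases j with _ | _ | j
    · have : 0 < Nat.card M := Nat.card_pos
      omega
    · omega
    · have : 2 * Nat.card P ≤ Nat.card M := by rw [hj]; nlinarith
      change Nat.card D ≤ _ at hle
      change Nat.card M ≤ 2 * Nat.card D + 1 at h2
      omega
  intro m hm
  rw [← hPe] at hm
  exact hm.2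

/-- The doubly transitive case. -/
theorem rank_one_conclusion :
    ∃ (F : Type) (_ : Field F) (_ : Fintype F) (p : ℕ) (_ : Fact p.Prime) (_ : CharP F p),
      Fintype.card F = Nat.card M ∧ (IsMulCommutative M ∧ ∀ m ∈ M, m ^ p = 1) ∧
        (Nonempty (G ≃* Matrix.ProjGenLinGroup (Fin 2) F) ∨
          (Fintype.card F % 4 = 1 ∧
            Nonempty (G ≃* Matrix.ProjectiveSpecialLinearGroup (Fin 2) F))) := by
  classical
  haveI := Fintype.ofFinite (Pts M)
  have hpts := S.card_points_eq hJ hb hzb huniq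
  set n := Nat.card ↥(stabilizer G (base M) ⊓ stabilizer G b) with hn
  have hev := S.even_card_D hJ hb hzb huniq
  have hle := S.card_D_le hJ hb hzb huniq
  have h4 := S.card_ge_four hJ hb hzb huniq
  obtain ⟨i, hi⟩ := hev
  obtain ⟨j, hj⟩ := S.odd_card
  have hn0 : 0 < n := Nat.card_pos
  rw [← hn] at hi hle
  have finish : ∀ (F : Type) [Field F] [Fintype F], Fintype.card F = Nat.card M →
      Nat.card M ≤ 2 * n + 1 → ∃ (p : ℕ) (_ : Fact p.Prime) (_ : CharP F p),
        IsMulCommutative M ∧ ∀ m ∈ M, m ^ p = 1 := by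
    intro F _ _ hF h2
    obtain ⟨p, hp⟩ := CharP.exists F
    obtain ⟨k, hpp, hk⟩ := FiniteField.card F p
    haveI := Fact.mk hpp
    exact ⟨p, ⟨hpp⟩, hp, S.elementary hJ hb hzb huniq
      (by rw [← hF, hk]; exact dvd_pow_self p k.pos.ne') h2⟩
  by_cases hfull : n = Nat.card M - 1
  · obtain ⟨F, iF, iFin, hF, hiso⟩ := S.pgl_case hJ hb hzb huniq (hn ▸ hfull)
    obtain ⟨p, ip, ic, he⟩ := finish F (by omega) (by omega)
    exact ⟨F, iF, iFin, p, ip, ic, by omega, he, Or.inl hiso⟩
  · have hZ := S.isZassenhaus hJ hb hzb huniq (by omega)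
    have hΩ : Fintype.card (Pts M) = Nat.card M + 1 := by rw [← Nat.card_eq_fintype_card, hpts]
    obtain ⟨k, hk⟩ := (CfsgLib.Classification.PSLTwoGeneral.card_pair_stab_dvd hZ hb.symm).1
    rw [← hn, hΩ] at hk
    have hhalf : 2 * n ≤ Fintype.card (Pts M) - 2 := by
      rw [hΩ, hk]
      rcases k with _ | _ | k
      · rw [mul_zero] at hk; omega
      · simp only [zero_add, mul_one] at hk; omega
      · nlinarith
    have heven : Even n := ⟨i, hi⟩
    obtain ⟨hdeq, -⟩ :=
      CfsgLib.Classification.PSLTwoGeneral.swap_sq_eq_one hZ hb.symm (hn ▸ heven) (hn ▸ hhalf)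
    obtain ⟨F, iF, iFin, -, -, hF, hiso⟩ :=
      CfsgLib.Classification.PSLTwoGeneral.exists_equiv_of_zassenhaus hZ hb.symm (hn ▸ heven)
        (hn ▸ hhalf)
    rw [← hn] at hdeq
    obtain ⟨p, ip, ic, he⟩ := finish F (by omega) (by omega)
    exact ⟨F, iF, iFin, p, ip, ic, by omega, he, Or.inr ⟨by omega, hiso⟩⟩

end Setup

end CfsgLib.BenderTI
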